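import Cfsg.Agent.Lib.Presented.Fi22Pts.Basic
import Mathlib.GroupTheory.GroupAction.Quotient

/-!
Upper bounds for the orders of subgroups of the presented Fischer group on 22 letters from fixed points and
adjacencies.
-/
set_option autoImplicit false
set_option maxRecDepth 8000

namespace CfsgLib.Presented.Fi22Pts

open CfsgLib.ThreeTrans.Inst.FiTwentyTwo (P a o)
open Fi22UCosets (ev phi phi_ev rep_valid)
open Fi22UCert (rep alphabet)

/-- a step: a base point with the size of its orbit bound, the image of a fixed point under a centralised word,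
or the conjugate of a fixed point by the transposition of another -/
inductive Op
  | base (p : ℕ) (w : List ℕ) (n : ℕ)
  | cen (i : ℕ) (p : ℕ) (w : List ℕ)
  | conj (i j : ℕ) (p : ℕ) (w : List ℕ)

/-- the points that may be images of `p` -/
noncomputable def cell (prev : List (ℕ × List ℕ)) (p : ℕ) : ℕ :=
  List.rec (motive := fun _ => ℕ) (Vec.ones rep.N)
    (fun f _ ih => Vec.force ih fun m => Vec.force (adj f.2) fun A =>
      cond (bit A p) (Nat.land m A) (Nat.xor m (Nat.land m (Nat.lor A (Nat.shiftLeft 1 f.1))))) prev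

/-- the test -/
noncomputable def chk (cw : List ℕ) : List Op → List (ℕ × List ℕ) → Bool
  | [], prev => gpts.all fun q => prev.any fun f => Nat.beq f.1 q
  | .base p w n :: r, prev => ok w && Nat.beq (img w 0) p && Vec.force (cell prev p) (fun M =>
      bit M p && Nat.ble (bitCount M rep.N) n) && chk cw r (prev ++ [(p, w)])
  | .cen i p w :: r, prev => ok w && Nat.beq (img w 0) p && ok cw && Nat.blt i prev.length &&
      Nat.beq (img cw (prev.getD i (0, [])).1) p && chk cw r (prev ++ [(p, w)])
  | .conj i j p w :: r, prev => ok w && Nat.beq (img w 0) p && Nat.blt i prev.length && Nat.blt j prev.length &&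
      Nat.beq (img (tw (prev.getD i (0, [])).2) (prev.getD j (0, [])).1) p && chk cw r (prev ++ [(p, w)])

/-- the bound -/
def total : List Op → ℕ
  | [] => 1
  | .base _ _ n :: r => n * total r
  | .cen _ _ _ :: r => total r
  | .conj _ _ _ _ :: r => total r

/-- fixed points with words reaching them -/
def Good (K : Subgroup G) (prev : List (ℕ × List ℕ)) : Prop :=
  ∀ f ∈ prev, ok f.2 = true ∧ img f.2 0 = f.1 ∧ ∀ k ∈ K, P.φ k (pt f.1) = pt f.1

theorem Good.lt {K : Subgroup G} {prev : List (ℕ × List ℕ)} (h : Good K prev) {f : ℕ × List ℕ} (hf : f ∈ prev) :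
    f.1 < rep.N := (h f hf).2.1 ▸ img_lt (h f hf).1 (VCert.pos Fi22UCert.cert_ok)

theorem Good.append {K : Subgroup G} {prev : List (ℕ × List ℕ)} (h : Good K prev) {p : ℕ} {w : List ℕ}
    (hw : ok w = true) (hp : img w 0 = p) (hk : ∀ k ∈ K, P.φ k (pt p) = pt p) : Good K (prev ++ [(p, w)]) := by
  intro f hf
  rcases List.mem_append.1 hf with hf | hf
  · exact h f hf
  · rw [List.mem_singleton] at hf
    subst hf
    exact ⟨hw, hp, hk⟩

theorem mem_cell : ∀ {prev : List (ℕ × List ℕ)} {K : Subgroup G}, Good K prev → ∀ {p : ℕ}, p < rep.N →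
    (cell prev p).testBit p = true → ∀ k ∈ K, (cell prev p).testBit (P.φ k (pt p) : ℕ) = true
  | [], K, _, p, hp, _, k, _ => by
    show (Vec.ones rep.N).testBit _ = true
    rw [Vec.testBit_ones]
    exact decide_eq_true (P.φ k (pt p)).2
  | f :: prev, K, hg, p, hp, hb, k, hk => by
    obtain ⟨hw, hf, hfix⟩ := hg f List.mem_cons_self
    have hflt := hg.lt (List.mem_cons_self (a := f) (l := prev))
    have ih := @mem_cell prev K (fun x hx => hg x (List.mem_cons_of_mem _ hx)) p hp
    set q := P.φ k (pt p) with hq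
    have hcom : (adj f.2).testBit p = (adj f.2).testBit (q : ℕ) := by
      rw [Bool.eq_iff_iff, adj_spec hw hp, adj_spec hw q.2, hf]
      have hkf := (commute_T_iff k f.1).2 (hfix k hk)
      have e : T (q : ℕ) = k * T p * k⁻¹ := by
        rw [T, T, pt_self, hq, P.conj_tp]
      have hne : p ≠ f.1 ↔ (q : ℕ) ≠ f.1 := by
        refine not_congr ⟨fun e' => ?_, fun e' => ?_⟩
        · rw [hq, e', hfix k hk, pt_val hflt]
        · have e2 : q = pt f.1 := Fin.ext (by rw [pt_val hflt, e'])
          rw [hq] at e2
          have := (P.φ k).injective (e2.trans (hfix k hk).symm)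
          have := congrArg Fin.val this
          rwa [pt_val hp, pt_val hflt] at this
      rw [hne, e]
      refine and_congr_right fun _ => ⟨fun hc => ?_, fun hc => ?_⟩
      · have := hc.map (MulAut.conj k).toMonoidHom
        simpa [hkf.eq] using this
      · have h1 : k * T f.1 * k⁻¹ = T f.1 := by rw [hkf.eq, mul_inv_cancel_right]
        rw [← h1] at hc
        have := hc.map (MulAut.conj k⁻¹).toMonoidHom
        simpa [mul_assoc] using this
    have hne : p ≠ f.1 → (q : ℕ) ≠ f.1 := fun hpf e' => by
      have e2 : q = pt f.1 := Fin.ext (by rw [pt_val hflt, e'])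
      rw [hq] at e2
      have := congrArg Fin.val ((P.φ k).injective (e2.trans (hfix k hk).symm))
      rw [pt_val hp, pt_val hflt] at this
      exact hpf this
    have hcell : cell (f :: prev) p = Vec.force (cell prev p) fun m => Vec.force (adj f.2) fun A =>
        cond (bit A p) (Nat.land m A) (Nat.xor m (Nat.land m (Nat.lor A (Nat.shiftLeft 1 f.1)))) := rfl
    rw [hcell, Vec.force_eq, Vec.force_eq, bit_eq] at hb ⊢
    cases hA : (adj f.2).testBit p
    · simp only [hA, cond_false] at hb ⊢
      change (cell prev p ^^^ (cell prev p &&& (adj f.2 ||| 1 <<< f.1))).testBit p = true at hb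
      show (cell prev p ^^^ (cell prev p &&& (adj f.2 ||| 1 <<< f.1))).testBit (q : ℕ) = true
      simp only [Nat.testBit_xor, Nat.testBit_and, Nat.testBit_or, hA, Bool.false_or] at hb ⊢
      rw [← hcom, hA, Bool.false_or]
      have hpf : p ≠ f.1 := by
        intro e'
        subst e'
        simp [Nat.testBit_shiftLeft] at hb
      have hbp : (cell prev p).testBit p = true := by
        cases h0 : (cell prev p).testBit p
        · simp [h0] at hb
        · rfl
      have h2 : (1 <<< f.1).testBit (q : ℕ) = false := by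
        rw [Nat.one_shiftLeft, Nat.testBit_two_pow]
        exact decide_eq_false fun e' => hne hpf e'.symm
      have h3 : (cell prev p).testBit (q : ℕ) = true := ih hbp k hk
      simp [h3, h2]
    · simp only [hA, cond_true] at hb ⊢
      change (cell prev p &&& adj f.2).testBit p = true at hb
      show (cell prev p &&& adj f.2).testBit (q : ℕ) = true
      rw [Nat.testBit_and, Bool.and_eq_true] at hb ⊢
      exact ⟨ih hb.1 k hk, hcom ▸ hA⟩

/-- The bound. -/
theorem card_le_total {cw : List ℕ} : ∀ {ops : List Op} {prev : List (ℕ × List ℕ)} {K : Subgroup G},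
    chk cw ops prev = true → Good K prev → (∀ k ∈ K, Commute k (evW ev cw)) → Nat.card K ≤ total ops
  | [], prev, K, hc, hg, _ => by
    simp only [chk, List.all_eq_true, List.any_eq_true] at hc
    have hbot : K = ⊥ := by
      rw [eq_bot_iff]
      intro k hk
      refine Subgroup.mem_bot.2 (center_trivial fun q hq => ?_)
      obtain ⟨f, hf, he⟩ := hc q hq
      rw [← Nat.eq_of_beq_eq_true he]
      exact (hg f hf).2.2 k hk
    subst hbot
    simp [total]
  | .base p w n :: r, prev, K, hc, hg, hcen => by
    simp only [chk, Vec.force_eq, Bool.and_eq_true, bit_eq, Nat.ble_eq] at hc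
    obtain ⟨⟨⟨hw, hp⟩, hb, hn⟩, hr⟩ := hc
    have hp' : img w 0 = p := Nat.eq_of_beq_eq_true hp
    have hplt : p < rep.N := hp' ▸ img_lt hw (VCert.pos Fi22UCert.cert_ok)
    let inst : MulAction K (Fin rep.N) := MulAction.compHom _ ((P.φ).comp K.subtype)
    have hsmul : ∀ (k : K) (i : Fin rep.N), k • i = P.φ (k : G) i := fun _ _ => rfl
    set S := MulAction.stabilizer K (pt p) with hS
    set K' := S.map K.subtype with hK'
    have hK'le : K' ≤ K := Subgroup.map_subtype_le _
    have ih : Nat.card K' ≤ total r := by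
      refine card_le_total hr ?_ fun k hk => hcen k (hK'le hk)
      refine Good.append (fun f hf => ⟨(hg f hf).1, (hg f hf).2.1, fun k hk => (hg f hf).2.2 k (hK'le hk)⟩) hw hp' ?_
      rintro _ ⟨k, hk, rfl⟩
      exact hk
    have horb : (MulAction.orbit K (pt p)).ncard ≤ n := by
      refine le_trans ?_ hn
      rw [bitCount_eq, ← Set.ncard_coe_finset, ← Set.ncard_image_of_injective _ Fin.val_injective]
      refine Set.ncard_le_ncard ?_ (Finset.finite_toSet _)
      rintro _ ⟨_, ⟨k, rfl⟩, rfl⟩
      rw [Finset.mem_coe, Finset.mem_filter, Finset.mem_range]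
      exact ⟨(P.φ (k : G) (pt p)).2, mem_cell hg hplt hb k k.2⟩
    have hcard : Nat.card K = Nat.card K' * (MulAction.orbit K (pt p)).ncard := by
      rw [← MulAction.index_stabilizer, hK', Subgroup.card_map_of_injective K.subtype_injective]
      exact (Subgroup.card_mul_index S).symm
    rw [hcard, total, mul_comm n]
    exact Nat.mul_le_mul ih horb
  | .cen i p w :: r, prev, K, hc, hg, hcen => by
    simp only [chk, Bool.and_eq_true, Nat.blt_eq] at hc
    obtain ⟨⟨⟨⟨⟨hw, hp⟩, hcw⟩, hi⟩, he⟩, hr⟩ := hc
    refine @card_le_total cw r _ K hr (hg.append hw (Nat.eq_of_beq_eq_true hp) fun k hk => ?_) hcen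
    have hm : prev.getD i (0, []) ∈ prev := by
      rw [List.getD_eq_getElem _ _ hi]; exact List.getElem_mem _
    have hlt := hg.lt hm
    rw [← Nat.eq_of_beq_eq_true he, ← phi_pt hcw hlt, ← Equiv.Perm.mul_apply, ← map_mul, (hcen k hk).eq,
      map_mul, Equiv.Perm.mul_apply, (hg _ hm).2.2 k hk]
  | .conj i j p w :: r, prev, K, hc, hg, hcen => by
    simp only [chk, Bool.and_eq_true, Nat.blt_eq] at hc
    obtain ⟨⟨⟨⟨⟨hw, hp⟩, hi⟩, hj⟩, he⟩, hr⟩ := hc
    refine @card_le_total cw r _ K hr (hg.append hw (Nat.eq_of_beq_eq_true hp) fun k hk => ?_) hcen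
    have hmi : prev.getD i (0, []) ∈ prev := by
      rw [List.getD_eq_getElem _ _ hi]; exact List.getElem_mem _
    have hmj : prev.getD j (0, []) ∈ prev := by
      rw [List.getD_eq_getElem _ _ hj]; exact List.getElem_mem _
    have hok := ok_tw (hg _ hmi).1
    have hcT : Commute k (evW ev (tw (prev.getD i (0, [])).2)) := by
      rw [evW_tw (hg _ hmi).1, (hg _ hmi).2.1, commute_T_iff]
      exact (hg _ hmi).2.2 k hk
    rw [← Nat.eq_of_beq_eq_true he, ← phi_pt hok (hg.lt hmj), ← Equiv.Perm.mul_apply, ← map_mul, hcT.eq, map_mul,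
      Equiv.Perm.mul_apply, (hg _ hmj).2.2 k hk]

end CfsgLib.Presented.Fi22Pts
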