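import Cfsg.Agent.Lib.Presented.Fi22Pts.FixSet
import Cfsg.Agent.Lib.Presented.Fi22Simple

/-!
All elements of the presented Fischer group on 22 letters act as even permutations of the points; an odd symmetry of
the point set therefore cannot be realised inside the group.
-/
set_option autoImplicit false
set_option maxRecDepth 8000

namespace CfsgLib.Presented.Fi22Pts

open CfsgLib.ThreeTrans.Inst.FiTwentyTwo (P o)
open Fi22UCosets (ev phi rep_valid gen_top)
open Fi22UCert (rep alphabet)

theorem sign_phi (g : G) : Equiv.Perm.sign (P.φ g) = 1 := by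
  have := Fi22Simple.simple
  rcases IsSimpleGroup.eq_bot_or_eq_top_of_normal (Equiv.Perm.sign.comp P.φ).ker inferInstance with h | h
  · exfalso
    have hinj := (MonoidHom.ker_eq_bot_iff _).1 h
    have hz : Subgroup.center G = ⊤ := by
      rw [eq_top_iff]
      intro y _
      exact Subgroup.mem_center_iff.2 fun z => hinj (by simp only [map_mul]; exact mul_comm _ _)
    rw [CfsgLib.ThreeTrans.Inst.FiTwentyTwo.center_bot] at hz
    exact P.a_ne (Subgroup.mem_bot.1 (hz ▸ Subgroup.mem_top P.a))
  · exact MonoidHom.mem_ker.1 (h ▸ Subgroup.mem_top g : g ∈ (Equiv.Perm.sign.comp P.φ).ker)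

/-- the networks agree on all points -/
noncomputable def sameNet (u v : List Vec.Stage) : Bool :=
  (Vec.slices rep.m).all fun s => Nat.beq
    (Nat.land (Vec.ones rep.N) (Vec.applyNet u s)) (Nat.land (Vec.ones rep.N) (Vec.applyNet v s))

theorem sameNet_spec {u v : List Vec.Stage} (hu : Vec.netOk u = true) (hv : Vec.netOk v = true)
    (h : sameNet u v = true) {i : ℕ} (hi : i < rep.N) (h1 : Vec.netPerm u i < rep.N)
    (h2 : Vec.netPerm v i < rep.N) : Vec.netPerm u i = Vec.netPerm v i := by
  have hN := (Rep.valid_spec rep_valid).2.1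
  refine Vec.eq_of_slices (lt_of_lt_of_le h1 hN) (lt_of_lt_of_le h2 hN) fun s hs => ?_
  have := congrArg (fun n => n.testBit i) (Nat.eq_of_beq_eq_true (List.all_eq_true.1 h s hs))
  change (Vec.ones rep.N &&& Vec.applyNet u s).testBit i = (Vec.ones rep.N &&& Vec.applyNet v s).testBit i at this
  rwa [Nat.testBit_and, Nat.testBit_and, Vec.testBit_ones, decide_eq_true hi, Bool.true_and, Bool.true_and,
    Vec.testBit_applyNet hu, Vec.testBit_applyNet hv] at this

/-- a symmetry: an involutive network on the points carrying the generators to the transpositions of the given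
points -/
noncomputable def symOk (st : List Vec.Stage) (qs : List (ℕ × List ℕ)) : Bool :=
  Vec.netOk st && Nat.beq (Vec.applyNet st (Vec.ones rep.N)) (Vec.ones rep.N) &&
    sameNet (st ++ st) [] && Nat.beq (netImg st 0) (qs.getD 0 (0, [])).1 &&
    (List.range 9).all fun x => ok (qs.getD x (0, [])).2 &&
      Nat.beq (img (qs.getD x (0, [])).2 0) (qs.getD x (0, [])).1 &&
      sameNet (st ++ net x) (rep.netW (tw (qs.getD x (0, [])).2) ++ st)

/-- the points moved by a network -/
noncomputable def movedNet (st : List Vec.Stage) : ℕ :=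
  Nat.land (Vec.ones rep.N) (movedAux st (Vec.slices rep.m) 0)

/-- an odd symmetry: an involution moving an odd number of pairs -/
noncomputable def oddSym (st : List Vec.Stage) (pairs : ℕ) : Bool :=
  Nat.beq (bitCount (movedNet st) rep.N) (2 * pairs) && decide (pairs % 2 = 1)

variable {st : List Vec.Stage} {qs : List (ℕ × List ℕ)}

theorem netPerm_lt (hst : Vec.netOk st = true) (hs : Vec.applyNet st (Vec.ones rep.N) = Vec.ones rep.N) {i : ℕ}
    (hi : i < rep.N) : Vec.netPerm st i < rep.N := by
  have h := Vec.testBit_applyNet hst (Vec.ones rep.N) i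
  rw [hs, Vec.testBit_ones, Vec.testBit_ones, decide_eq_true hi] at h
  exact of_decide_eq_true h.symm

theorem not_realised {pairs : ℕ} (hsym : symOk st qs = true) (hodd : oddSym st pairs = true) (k : G)
    (hk : ∀ x, x < 9 → P.φ k (pt (gpts.getD x 0)) = pt (qs.getD x (0, [])).1) : False := by
  simp only [symOk, Bool.and_eq_true, List.all_eq_true, List.mem_range] at hsym
  obtain ⟨⟨⟨⟨hst, hs⟩, hinv⟩, h0⟩, hgen⟩ := hsym
  have hs' := Nat.eq_of_beq_eq_true hs
  have hst2 : Vec.netOk (st ++ st) = true := by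
    rw [Vec.netOk, List.all_append]
    exact Bool.and_eq_true _ _ ▸ ⟨hst, hst⟩
  have hinv' : ∀ i, i < rep.N → Vec.netPerm st (Vec.netPerm st i) = i := by
    intro i hi
    have h1 : Vec.netPerm (st ++ st) i < rep.N := by
      rw [Vec.netPerm_append]
      exact netPerm_lt hst hs' (netPerm_lt hst hs' hi)
    have h2 : Vec.netPerm [] i < rep.N := by simpa [Vec.netPerm] using hi
    have := sameNet_spec hst2 rfl hinv hi h1 h2
    rw [Vec.netPerm_append, Equiv.Perm.mul_apply] at this
    simpa [Vec.netPerm] using this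
  let f : Fin rep.N → Fin rep.N := fun i => ⟨Vec.netPerm st i, netPerm_lt hst hs' i.2⟩
  have hf : Function.Involutive f := fun i => Fin.ext (hinv' i i.2)
  set π : Equiv.Perm (Fin rep.N) := hf.toPerm f with hπ
  have hval : ∀ i, (π i : ℕ) = Vec.netPerm st i := fun _ => rfl
  have hN := VCert.pos Fi22UCert.cert_ok
  -- the two maps commute with the generators in the same way
  have step : ∀ x, x < 9 → ∀ i, P.φ k i = π i → P.φ k (P.φ (ev x) i) = π (P.φ (ev x) i) := by
    intro x hx i hi
    obtain ⟨⟨hw, himg⟩, hsame⟩ := hgen x hx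
    set w := (qs.getD x (0, [])).2
    have hgl : gpts.getD x 0 < rep.N := by
      rw [List.getD_eq_getElem _ _ (show x < gpts.length from hx)]
      exact gpts_lt _ (List.getElem_mem _)
    have hconj : k * ev x = evW ev (tw w) * k := by
      rw [evW_tw hw, Nat.eq_of_beq_eq_true himg, T, ← hk x hx, ← P.conj_tp, inv_mul_cancel_right,
        ← T_gpts x hx]
      rfl
    rw [← Equiv.Perm.mul_apply, ← map_mul, hconj, map_mul, Equiv.Perm.mul_apply, hi]
    apply Fin.ext
    have hev : (P.φ (ev x) i : ℕ) = Vec.netPerm (net x) i := by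
      have h1 := phi_img (w := [x]) (by rw [ok, List.all_cons, List.all_nil, Bool.and_true, Nat.blt_eq]; exact hx) i
      rw [evW_cons, evW_nil, mul_one] at h1
      rw [show (P.φ (ev x) i : ℕ) = (phi (ev x) i : ℕ) from rfl, h1, img_eq]
      simp [Rep.netW, net]
    have htw := ok_tw hw
    rw [show (P.φ (evW ev (tw w)) (π i) : ℕ) = (phi (evW ev (tw w)) (π i) : ℕ) from rfl, phi_img htw, img_eq,
      hval, hval, hev]
    have hnet := (Rep.valid_spec rep_valid).2.2.1 x
    have hu : Vec.netOk (st ++ net x) = true := by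
      rw [Vec.netOk, List.all_append]; exact Bool.and_eq_true _ _ ▸ ⟨hst, hnet⟩
    have hv : Vec.netOk (rep.netW (tw w) ++ st) = true := by
      rw [Vec.netOk, List.all_append]; exact Bool.and_eq_true _ _ ▸ ⟨Rep.netOk_netW rep_valid _, hst⟩
    have h1 : Vec.netPerm (st ++ net x) i < rep.N := by
      rw [Vec.netPerm_append, Equiv.Perm.mul_apply, ← hev]
      exact netPerm_lt hst hs' (P.φ (ev x) i).2
    have h2 : Vec.netPerm (rep.netW (tw w) ++ st) i < rep.N := by
      rw [Vec.netPerm_append, Equiv.Perm.mul_apply, ← img_eq]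
      exact img_lt htw (netPerm_lt hst hs' i.2)
    have := sameNet_spec hu hv hsame i.2 h1 h2
    rw [Vec.netPerm_append, Vec.netPerm_append, Equiv.Perm.mul_apply, Equiv.Perm.mul_apply] at this
    exact this.symm
  have key : ∀ g : G, ∀ i, P.φ k i = π i ↔ P.φ k (P.φ g i) = π (P.φ g i) := by
    intro g
    have hg : g ∈ Subgroup.closure (ev '' Set.Iio alphabet.eps) := gen_top ▸ Subgroup.mem_top g
    induction hg using Subgroup.closure_induction with
    | mem z hz =>
      obtain ⟨x, hx, rfl⟩ := hz
      intro i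
      refine ⟨step x hx i, fun h => ?_⟩
      have := step x hx _ h
      have e : P.φ (ev x) (P.φ (ev x) i) = i := by
        rw [← Equiv.Perm.mul_apply, ← map_mul, letters_sq x hx, map_one, Equiv.Perm.one_apply]
      rwa [e] at this
    | one => simp
    | mul u v _ _ hu hv => exact fun i => by rw [map_mul, Equiv.Perm.mul_apply]; exact (hv i).trans (hu _)
    | inv u _ hu =>
      intro i
      have := hu (P.φ u⁻¹ i)
      have e : P.φ u (P.φ u⁻¹ i) = i := by
        rw [← Equiv.Perm.mul_apply, ← map_mul, mul_inv_cancel, map_one, Equiv.Perm.one_apply]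
      rw [e] at this
      exact this.symm
  have heq : P.φ k = π := by
    have h00 : P.φ k o = π o := by
      apply Fin.ext
      have hq := hk 0 (by norm_num)
      rw [show gpts.getD 0 0 = 0 from rfl, pt_zero] at hq
      rw [hq, hval, show ((o : Fin rep.N) : ℕ) = 0 by rw [← pt_zero, pt_val hN], ← netImg_eq hst,
        Nat.eq_of_beq_eq_true h0, pt_val]
      rw [← Nat.eq_of_beq_eq_true h0, netImg_eq hst]
      exact netPerm_lt hst hs' hN
    refine Equiv.ext fun i => ?_
    obtain ⟨g, rfl⟩ := P.trans i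
    exact (key g o).1 h00
  simp only [oddSym, Bool.and_eq_true, decide_eq_true_eq] at hodd
  obtain ⟨hcount, hpar⟩ := hodd
  have hsupp : π.support.card = 2 * pairs := by
    rw [← Nat.eq_of_beq_eq_true hcount, bitCount_eq, ← Finset.card_map Fin.valEmbedding]
    refine congrArg Finset.card ?_
    ext n
    simp only [Finset.mem_map, Equiv.Perm.mem_support, Fin.valEmbedding_apply, Finset.mem_filter,
      Finset.mem_range]
    change _ ↔ n < rep.N ∧ (Vec.ones rep.N &&& _).testBit n = true
    rw [Nat.testBit_and, Vec.testBit_ones, Bool.and_eq_true, decide_eq_true_iff, testBit_movedAux]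
    simp only [Nat.zero_testBit, Bool.false_eq_true, false_or]
    constructor
    · rintro ⟨i, hi, rfl⟩
      refine ⟨i.2, i.2, ?_⟩
      by_contra hcon
      push Not at hcon
      refine hi (Fin.ext ?_)
      rw [hval]
      have hNm := (Rep.valid_spec rep_valid).2.1
      refine Vec.eq_of_slices (lt_of_lt_of_le (netPerm_lt hst hs' i.2) hNm) (lt_of_lt_of_le i.2 hNm) fun s hs => ?_
      rw [← Vec.testBit_applyNet hst]
      exact (hcon s hs).symm
    · rintro ⟨hn, -, s, hs, hne⟩
      refine ⟨⟨n, hn⟩, fun e => hne ?_, rfl⟩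
      rw [Vec.testBit_applyNet hst, show Vec.netPerm st n = n from congrArg Fin.val e]
  have hne : π ≠ 1 := by
    intro e
    rw [e, Equiv.Perm.support_one, Finset.card_empty] at hsupp
    omega
  have hsq : π ^ 2 = 1 := by
    rw [pow_two]
    exact Equiv.ext fun i => hf i
  have : Fact (Nat.Prime 2) := ⟨Nat.prime_two⟩
  obtain ⟨n, hn⟩ := Equiv.Perm.cycleType_prime_order (orderOf_eq_prime hsq hne ▸ Nat.prime_two)
  rw [orderOf_eq_prime hsq hne] at hn
  have hsum := Equiv.Perm.sum_cycleType π
  rw [hn, Multiset.sum_replicate, smul_eq_mul, hsupp] at hsum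
  have hsign := sign_phi k
  rw [heq, Equiv.Perm.sign_of_cycleType, hn, Multiset.sum_replicate, Multiset.card_replicate, smul_eq_mul] at hsign
  have hodd' : Odd ((n + 1) * 2 + (n + 1)) := by
    rw [show n + 1 = pairs by omega]
    exact ⟨(3 * pairs - 1) / 2, by omega⟩
  rw [hodd'.neg_one_pow] at hsign
  exact absurd hsign (by decide)

/-- derive images of further points: from the pairs numbered `i` and `j`, the point `p` and its image -/
noncomputable def chkMap : List (ℕ × ℕ × ℕ × List ℕ × ℕ × List ℕ) → List ((ℕ × List ℕ) × (ℕ × List ℕ)) →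
    List (ℕ × ℕ) → Bool
  | [], prev, goal => goal.all fun g => prev.any fun f => Nat.beq f.1.1 g.1 && Nat.beq f.2.1 g.2
  | (i, j, p, w, p', w') :: r, prev, goal =>
    ok w && Nat.beq (img w 0) p && ok w' && Nat.beq (img w' 0) p' && Nat.blt i prev.length && Nat.blt j prev.length &&
      Nat.beq (img (tw (prev.getD i default).1.2) (prev.getD j default).1.1) p &&
      Nat.beq (img (tw (prev.getD i default).2.2) (prev.getD j default).2.1) p' &&
      chkMap r (prev ++ [((p, w), (p', w'))]) goal

/-- pairs of a point and its image -/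
def GoodMap (k : G) (prev : List ((ℕ × List ℕ) × (ℕ × List ℕ))) : Prop :=
  ∀ f ∈ prev, ok f.1.2 = true ∧ img f.1.2 0 = f.1.1 ∧ ok f.2.2 = true ∧ img f.2.2 0 = f.2.1 ∧
    P.φ k (pt f.1.1) = pt f.2.1

theorem chkMap_spec : ∀ {ops : List (ℕ × ℕ × ℕ × List ℕ × ℕ × List ℕ)}
    {prev : List ((ℕ × List ℕ) × (ℕ × List ℕ))} {goal : List (ℕ × ℕ)} {k : G},
    chkMap ops prev goal = true → GoodMap k prev → ∀ g ∈ goal, P.φ k (pt g.1) = pt g.2
  | [], prev, goal, k, hc, hg, g, hgm => by
    simp only [chkMap, List.all_eq_true, List.any_eq_true, Bool.and_eq_true] at hc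
    obtain ⟨f, hf, e1, e2⟩ := hc g hgm
    rw [← Nat.eq_of_beq_eq_true e1, ← Nat.eq_of_beq_eq_true e2]
    exact (hg f hf).2.2.2.2
  | (i, j, p, w, p', w') :: r, prev, goal, k, hc, hg, g, hgm => by
    simp only [chkMap, Bool.and_eq_true, Nat.blt_eq] at hc
    obtain ⟨⟨⟨⟨⟨⟨⟨⟨hw, hp⟩, hw'⟩, hp'⟩, hi⟩, hj⟩, he⟩, he'⟩, hr⟩ := hc
    refine chkMap_spec hr (fun f hf => ?_) g hgm
    rcases List.mem_append.1 hf with hf | hf
    · exact hg f hf
    rw [List.mem_singleton] at hf
    subst hf
    refine ⟨hw, Nat.eq_of_beq_eq_true hp, hw', Nat.eq_of_beq_eq_true hp', ?_⟩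
    have hmi : prev.getD i default ∈ prev := by
      rw [List.getD_eq_getElem _ _ hi]; exact List.getElem_mem _
    have hmj : prev.getD j default ∈ prev := by
      rw [List.getD_eq_getElem _ _ hj]; exact List.getElem_mem _
    obtain ⟨a1, a2, a3, a4, a5⟩ := hg _ hmi
    obtain ⟨b1, b2, b3, b4, b5⟩ := hg _ hmj
    have hN := VCert.pos Fi22UCert.cert_ok
    have hjlt : (prev.getD j default).1.1 < rep.N := b2 ▸ img_lt b1 hN
    have hjlt' : (prev.getD j default).2.1 < rep.N := b4 ▸ img_lt b3 hN
    show P.φ k (pt p) = pt p'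
    rw [← Nat.eq_of_beq_eq_true he, ← phi_pt (ok_tw a1) hjlt, ← Nat.eq_of_beq_eq_true he',
      ← phi_pt (ok_tw a3) hjlt', evW_tw a1, evW_tw a3, a2, a4, ← b5, ← Equiv.Perm.mul_apply, ← map_mul,
      ← Equiv.Perm.mul_apply, ← map_mul]
    refine congrArg (fun y => P.φ y _) ?_
    rw [T, T, ← a5, ← P.conj_tp, inv_mul_cancel_right]

end CfsgLib.Presented.Fi22Pts
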