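import Cfsg.Agent.Lib.Presented.Fi22Pts.Basic

/-!
The fixed points of a word on the points of the presented Fischer group on 22 letters, computed on bit slices.
-/
set_option autoImplicit false
set_option maxRecDepth 8000

namespace CfsgLib.Presented.Fi22Pts

open CfsgLib.ThreeTrans.Inst.FiTwentyTwo (P)
open Fi22UCosets (ev phi rep_valid)
open Fi22UCert (rep)

/-- the points moved by a word, from the slices -/
noncomputable def movedAux (st : List Vec.Stage) : List ℕ → ℕ → ℕ
  | [], m => m
  | s :: l, m => Vec.force (Nat.lor m (Nat.xor s (Vec.applyNet st s))) fun m => movedAux st l m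

theorem testBit_movedAux (st : List Vec.Stage) : ∀ (l : List ℕ) (m i : ℕ),
    (movedAux st l m).testBit i = true ↔
      m.testBit i = true ∨ ∃ s ∈ l, s.testBit i ≠ (Vec.applyNet st s).testBit i
  | [], m, i => by simp [movedAux]
  | s :: l, m, i => by
    rw [movedAux, Vec.force_eq, testBit_movedAux st l]
    show (m ||| (s ^^^ Vec.applyNet st s)).testBit i = true ∨ _ ↔ _
    rw [Nat.testBit_or, Nat.testBit_xor, Bool.or_eq_true, List.exists_mem_cons_iff, or_assoc]
    refine or_congr_right (or_congr_left ?_)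
    cases s.testBit i <;> cases (Vec.applyNet st s).testBit i <;> simp

/-- the points moved by a word -/
noncomputable def moved (w : List ℕ) : ℕ :=
  Nat.land (Vec.ones rep.N) (movedAux (rep.netW w) (Vec.slices rep.m) 0)

theorem moved_spec {w : List ℕ} (h : ok w = true) (j : Fin rep.N) :
    (moved w).testBit (j : ℕ) = true ↔ P.φ (evW ev w) j ≠ j := by
  have hN := (Rep.valid_spec rep_valid).2.1
  have e : (P.φ (evW ev w) j : ℕ) = Vec.netPerm (rep.netW w) j := by
    rw [← img_eq]
    exact phi_img h j
  show (Vec.ones rep.N &&& _).testBit (j : ℕ) = true ↔ _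
  rw [Nat.testBit_and, Vec.testBit_ones, decide_eq_true j.2, Bool.true_and, testBit_movedAux, Nat.zero_testBit]
  simp only [Bool.false_eq_true, false_or]
  constructor
  · rintro ⟨s, -, hs⟩ he
    rw [Vec.testBit_applyNet (Rep.netOk_netW rep_valid w), ← e, he] at hs
    exact hs rfl
  · intro hne
    by_contra hcon
    push Not at hcon
    refine hne (Fin.ext ?_)
    rw [e]
    refine Vec.eq_of_slices (lt_of_lt_of_le (e ▸ (P.φ (evW ev w) j).2) hN) (lt_of_lt_of_le j.2 hN) fun s hs => ?_
    rw [← Vec.testBit_applyNet (Rep.netOk_netW rep_valid w)]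
    exact (hcon s hs).symm

/-- the bit vector of a list of points -/
noncomputable def maskOf (l : List ℕ) : ℕ :=
  List.rec (motive := fun _ => ℕ) 0 (fun p _ ih => Nat.lor (Nat.shiftLeft 1 p) ih) l

theorem testBit_maskOf : ∀ (l : List ℕ) (i : ℕ), (maskOf l).testBit i = true ↔ i ∈ l
  | [], i => by simp [maskOf]
  | p :: l, i => by
    show (1 <<< p ||| maskOf l).testBit i = true ↔ _
    rw [Nat.testBit_or, Bool.or_eq_true, testBit_maskOf l, Nat.one_shiftLeft, Nat.testBit_two_pow,
      decide_eq_true_eq, List.mem_cons]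
    exact or_congr_left eq_comm

/-- the fixed points of the word are exactly the listed ones -/
noncomputable def fixIs (w : List ℕ) (l : List ℕ) : Bool :=
  ok w && l.all (fun p => Nat.blt p rep.N) && Nat.beq (Nat.xor (moved w) (maskOf l)) (Vec.ones rep.N)

theorem fixIs_spec {w : List ℕ} {l : List ℕ} (h : fixIs w l = true) (j : Fin rep.N) :
    P.φ (evW ev w) j = j ↔ (j : ℕ) ∈ l := by
  simp only [fixIs, Bool.and_eq_true] at h
  have hb := congrArg (fun v => v.testBit (j : ℕ)) (Nat.eq_of_beq_eq_true h.2)
  have hm := moved_spec h.1.1 j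
  have hl := testBit_maskOf l j
  change ((moved w) ^^^ maskOf l).testBit (j : ℕ) = (Vec.ones rep.N).testBit (j : ℕ) at hb
  rw [Nat.testBit_xor, Vec.testBit_ones, decide_eq_true j.2] at hb
  rw [← hl, ← not_iff_not, ← ne_eq, ← hm]
  cases h1 : (moved w).testBit (j : ℕ) <;> cases h2 : (maskOf l).testBit (j : ℕ) <;> simp [h1, h2] at hb ⊢

end CfsgLib.Presented.Fi22Pts
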