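import Cfsg.Agent.Lib.ThreeTrans.Inst.FiTwentyTwoType
import Cfsg.Agent.Lib.Presented.Orbit
import Cfsg.Agent.Lib.Presented.Fi22Pts.Table

/-!
Kernel calculus with the points of the presented Fischer group on 22 letters: images of points under words,
equality of words on nine points, transpositions of points as words, adjacency masks.
-/
set_option autoImplicit false
set_option maxRecDepth 8000
set_option Elab.async false

namespace CfsgLib.Presented.Fi22Pts

open CfsgLib.ThreeTrans.Inst.FiTwentyTwo (P a o maskA maskB phi_word evW_cat evW_eq_one)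
open Fi22UCosets (ev phi phi_ev rep_valid)
open Fi22UCert (rep alphabet)

/-- the groups points act on -/
abbrev G : Type := Cfsg.Spor.Fi22

/-- bit `i` of `m`, cheap for the kernel -/
def bit (m i : ℕ) : Bool := Nat.beq (Nat.land (Nat.shiftRight m i) 1) 1

theorem bit_eq (m i : ℕ) : bit m i = m.testBit i := by
  rw [Bool.eq_iff_iff]
  simp only [bit, Nat.testBit_eq_decide_div_mod_eq, decide_eq_true_eq]
  constructor
  · intro h
    have h' : (m >>> i) &&& 1 = 1 := Nat.eq_of_beq_eq_true h
    rwa [Nat.and_one_is_mod, Nat.shiftRight_eq_div_pow] at h'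
  · intro h
    show Nat.beq ((m >>> i) &&& 1) 1 = true
    rw [Nat.and_one_is_mod, Nat.shiftRight_eq_div_pow, h]
    rfl

/-- one stage on one point -/
noncomputable def stageImg (s : Vec.Stage) (i : ℕ) : ℕ :=
  Vec.Stage.rec (motive := fun _ => ℕ) (fun d m =>
    cond (bit m i) (Nat.add i d) (cond (Nat.ble d i && bit m (Nat.sub i d)) (Nat.sub i d) i)) s

theorem stageImg_eq {s : Vec.Stage} (h : s.ok = true) (i : ℕ) : stageImg s i = s.perm i := by
  show _ = s.swp i
  rw [Vec.Stage.swp, Vec.Stage.act_eq h i, Vec.Stage.act_eq h (i - s.d)]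
  obtain ⟨d, m⟩ := s
  show cond (bit m i) (i + d) (cond (Nat.ble d i && bit m (i - d)) (i - d) i) = _
  rw [bit_eq, bit_eq]
  cases hb : m.testBit i
  · by_cases hd : d ≤ i
    · cases hb2 : m.testBit (i - d) <;> simp [hd, (show Nat.ble d i = true by rwa [Nat.ble_eq])]
    · have : Nat.ble d i = false := by
        rw [← Bool.not_eq_true, Nat.ble_eq]; exact hd
      simp [hd, this]
  · simp

/-- stages on one point -/
noncomputable def netImg (l : List Vec.Stage) (i : ℕ) : ℕ :=
  List.rec (motive := fun _ => ℕ) i (fun s _ ih => Vec.force ih fun q => stageImg s q) l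

theorem netImg_eq : ∀ {l : List Vec.Stage}, Vec.netOk l = true → ∀ i, netImg l i = Vec.netPerm l i
  | [], _, i => by simp [netImg, Vec.netPerm]
  | s :: l, h, i => by
    rw [Vec.netOk, List.all_cons, Bool.and_eq_true] at h
    show Vec.force (netImg l i) (fun q => stageImg s q) = _
    rw [Vec.force_eq, netImg_eq h.2, stageImg_eq h.1]
    simp [Vec.netPerm]

/-- the networks of the nine letters, and none for other numbers -/
noncomputable def net (x : ℕ) : List Vec.Stage := rep.net x

/-- packed lookup -/
noncomputable def lookup (t i : ℕ) : ℕ := Nat.land (Nat.shiftRight t (Nat.mul 12 i)) 4095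

/-- one letter on one point, by table -/
noncomputable def stepT (x q : ℕ) : ℕ :=
  cond (Nat.blt x 9 && Nat.blt q 3510) (lookup (tables.getD x 0) q) (netImg (net x) q)

/-- all numbers below the bound -/
noncomputable def allLt (f : ℕ → Bool) : ℕ → Bool :=
  Nat.rec (motive := fun _ => Bool) true (fun k ih => ih && f k)

theorem allLt_spec {f : ℕ → Bool} : ∀ {n : ℕ}, allLt f n = true → ∀ i, i < n → f i = true
  | 0, _, i, hi => absurd hi (Nat.not_lt_zero i)
  | n + 1, h, i, hi => by
    have h' : (allLt f n && f n) = true := h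
    rw [Bool.and_eq_true] at h'
    rcases Nat.lt_succ_iff_lt_or_eq.1 hi with hi | rfl
    · exact allLt_spec h'.1 i hi
    · exact h'.2

set_option maxRecDepth 100000 in
theorem table_row0 : allLt (fun i => Nat.beq (lookup (tables.getD 0 0) i) (netImg (net 0) i)) 3510 = true := by
  decide +kernel

set_option maxRecDepth 100000 in
theorem table_row1 : allLt (fun i => Nat.beq (lookup (tables.getD 1 0) i) (netImg (net 1) i)) 3510 = true := by
  decide +kernel

set_option maxRecDepth 100000 in
theorem table_row2 : allLt (fun i => Nat.beq (lookup (tables.getD 2 0) i) (netImg (net 2) i)) 3510 = true := by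
  decide +kernel

set_option maxRecDepth 100000 in
theorem table_row3 : allLt (fun i => Nat.beq (lookup (tables.getD 3 0) i) (netImg (net 3) i)) 3510 = true := by
  decide +kernel

set_option maxRecDepth 100000 in
theorem table_row4 : allLt (fun i => Nat.beq (lookup (tables.getD 4 0) i) (netImg (net 4) i)) 3510 = true := by
  decide +kernel

set_option maxRecDepth 100000 in
theorem table_row5 : allLt (fun i => Nat.beq (lookup (tables.getD 5 0) i) (netImg (net 5) i)) 3510 = true := by
  decide +kernel

set_option maxRecDepth 100000 in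
theorem table_row6 : allLt (fun i => Nat.beq (lookup (tables.getD 6 0) i) (netImg (net 6) i)) 3510 = true := by
  decide +kernel

set_option maxRecDepth 100000 in
theorem table_row7 : allLt (fun i => Nat.beq (lookup (tables.getD 7 0) i) (netImg (net 7) i)) 3510 = true := by
  decide +kernel

set_option maxRecDepth 100000 in
theorem table_row8 : allLt (fun i => Nat.beq (lookup (tables.getD 8 0) i) (netImg (net 8) i)) 3510 = true := by
  decide +kernel

theorem table_ok : ∀ x, x < 9 →
    allLt (fun i => Nat.beq (lookup (tables.getD x 0) i) (netImg (net x) i)) 3510 = true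
  | 0, _ => table_row0
  | 1, _ => table_row1
  | 2, _ => table_row2
  | 3, _ => table_row3
  | 4, _ => table_row4
  | 5, _ => table_row5
  | 6, _ => table_row6
  | 7, _ => table_row7
  | 8, _ => table_row8
  | n + 9, h => absurd h (by omega)

theorem stepT_eq (x q : ℕ) : stepT x q = netImg (net x) q := by
  unfold stepT
  cases h : (Nat.blt x 9 && Nat.blt q 3510)
  · rfl
  · rw [Bool.and_eq_true, Nat.blt_eq, Nat.blt_eq] at h
    exact Nat.eq_of_beq_eq_true (allLt_spec (table_ok x h.1) q h.2)

/-- the image of a point under a word -/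
noncomputable def img (w : List ℕ) (p : ℕ) : ℕ :=
  List.rec (motive := fun _ => ℕ) p (fun x _ ih => Vec.force ih fun q => stepT x q) w

theorem img_eq : ∀ (w : List ℕ) (p : ℕ), img w p = Vec.netPerm (rep.netW w) p
  | [], p => rfl
  | x :: w, p => by
    show Vec.force (img w p) (fun q => stepT x q) = _
    rw [Vec.force_eq, img_eq w, stepT_eq, net, netImg_eq ((Rep.valid_spec rep_valid).2.2.1 x)]
    simp [Rep.netW, Vec.netPerm_append]

/-- all letters are generators -/
def ok (w : List ℕ) : Bool := w.all fun x => Nat.blt x 9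

theorem lt_of_ok {w : List ℕ} (h : ok w = true) : ∀ x ∈ w, x < alphabet.eps := by
  intro x hx
  have := List.all_eq_true.1 h x hx
  rw [Nat.blt_eq] at this
  exact this

theorem phi_img {w : List ℕ} (h : ok w = true) (i : Fin rep.N) : (phi (evW ev w) i : ℕ) = img w i := by
  rw [phi_word (lt_of_ok h), img_eq]

theorem img_lt {w : List ℕ} (h : ok w = true) {p : ℕ} (hp : p < rep.N) : img w p < rep.N :=
  phi_img h ⟨p, hp⟩ ▸ (phi (evW ev w) ⟨p, hp⟩).2

/-- the point numbered `p` -/
def pt (p : ℕ) : Fin rep.N := ⟨p % rep.N, Nat.mod_lt _ (VCert.pos Fi22UCert.cert_ok)⟩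

theorem pt_val {p : ℕ} (hp : p < rep.N) : (pt p : ℕ) = p := Nat.mod_eq_of_lt hp

theorem pt_self (i : Fin rep.N) : pt i = i := Fin.ext (pt_val i.2)

theorem pt_zero : pt 0 = o := Fin.ext (pt_val (VCert.pos Fi22UCert.cert_ok))

theorem tp_base : P.tp o = a := P.tp_o

/-- the transposition of a point -/
noncomputable def T (p : ℕ) : G := P.tp (pt p)

theorem phi_pt {w : List ℕ} (h : ok w = true) {p : ℕ} (hp : p < rep.N) :
    P.φ (evW ev w) (pt p) = pt (img w p) := by
  apply Fin.ext
  rw [pt_val (img_lt h hp)]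
  show (phi (evW ev w) (pt p) : ℕ) = _
  rw [phi_img h, pt_val hp]

theorem letters_sq : ∀ x, x < 9 → ev x * ev x = 1 := by
  have h : ((List.range 9).all fun x => rep.relsOK [[x, x]]) = true := by decide +kernel
  intro x hx
  have := evW_eq_one (List.all_eq_true.1 h x (List.mem_range.2 hx))
  simpa using this

theorem evW_rev : ∀ {w : List ℕ}, ok w = true → evW ev w.reverse = (evW ev w)⁻¹
  | [], _ => by simp
  | x :: w, h => by
    rw [ok, List.all_cons, Bool.and_eq_true, Nat.blt_eq] at h
    rw [List.reverse_cons, evW_cat, evW_cons, evW_cons, evW_nil, mul_one, mul_inv_rev, evW_rev h.2,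
      inv_eq_of_mul_eq_one_left (letters_sq x h.1)]

theorem ok_reverse {w : List ℕ} (h : ok w = true) : ok w.reverse = true := by
  simp only [ok, List.all_eq_true, List.mem_reverse] at h ⊢
  exact h

theorem ok_append {u v : List ℕ} : ok (u ++ v) = (ok u && ok v) := List.all_append

/-- the transposition of the point reached by `w` -/
def tw (w : List ℕ) : List ℕ := w ++ [0] ++ w.reverse

theorem ok_tw {w : List ℕ} (h : ok w = true) : ok (tw w) = true := by
  rw [tw, ok_append, ok_append, h, ok_reverse h]
  rfl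

theorem evW_tw {w : List ℕ} (h : ok w = true) : evW ev (tw w) = T (img w 0) := by
  rw [T, ← phi_pt h (VCert.pos Fi22UCert.cert_ok), pt_zero, tw, evW_cat, evW_cat, evW_rev h]
  exact (P.tp_phi (evW ev w)).symm

theorem conj_T {w : List ℕ} (h : ok w = true) {p : ℕ} (hp : p < rep.N) :
    evW ev w * T p * (evW ev w)⁻¹ = T (img w p) := by
  rw [T, P.conj_tp, phi_pt h hp]
  rfl

theorem commute_T_iff (g : G) (p : ℕ) : Commute g (T p) ↔ P.φ g (pt p) = pt p := P.commute_tp_iff g _

/-! ### The nine generating points -/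

/-- the points of the nine generators -/
def gpts : List ℕ := [0, 2, 6, 16, 40, 88, 154, 43, 92]

/-- words reaching them -/
def gwords : List (List ℕ) :=
  [[], [0, 1], [1, 2, 0, 1], [2, 3, 1, 2, 0, 1], [3, 4, 2, 3, 1, 2, 0, 1], [4, 5, 3, 4, 2, 3, 1, 2, 0, 1],
    [5, 6, 4, 5, 3, 4, 2, 3, 1, 2, 0, 1], [3, 7, 2, 3, 1, 2, 0, 1], [7, 8, 3, 7, 2, 3, 1, 2, 0, 1]]

theorem T_gpts : ∀ x, x < 9 → T (gpts.getD x 0) = ev x := by
  have h : ((List.range 9).all fun x => Nat.beq (img (gwords.getD x []) 0) (gpts.getD x 0) &&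
      ok (gwords.getD x []) && rep.relsOK [tw (gwords.getD x []) ++ [x]]) = true := by decide +kernel
  intro x hx
  have := List.all_eq_true.1 h x (List.mem_range.2 hx)
  simp only [Bool.and_eq_true] at this
  obtain ⟨⟨h1, h2⟩, h3⟩ := this
  have h4 := evW_eq_one h3
  rw [evW_cat, evW_tw h2, Nat.eq_of_beq_eq_true h1, evW_cons, evW_nil, mul_one] at h4
  rw [eq_inv_of_mul_eq_one_left h4]
  exact inv_eq_of_mul_eq_one_left (letters_sq x hx)

theorem gpts_lt : ∀ q ∈ gpts, q < rep.N := by decide +kernel

theorem center_trivial {g : G} (h : ∀ q ∈ gpts, P.φ g (pt q) = pt q) : g = 1 := by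
  have hc : ∀ y : G, g * y = y * g := by
    intro y
    have hy : y ∈ Subgroup.closure (ev '' Set.Iio alphabet.eps) := Fi22UCosets.gen_top ▸ Subgroup.mem_top y
    induction hy using Subgroup.closure_induction with
    | mem z hz =>
      obtain ⟨x, hx, rfl⟩ := hz
      have hx9 : x < 9 := hx
      have hm : gpts.getD x 0 ∈ gpts := by
        rw [List.getD_eq_getElem _ _ (show x < gpts.length from hx9)]
        exact List.getElem_mem _
      rw [← T_gpts x hx9]
      exact ((commute_T_iff g _).2 (h _ hm)).eq
    | one => simp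
    | mul u v _ _ hu hv => rw [← mul_assoc, hu, mul_assoc, hv, ← mul_assoc]
    | inv u _ hu => exact (Commute.inv_right (show Commute g u from hu)).eq
  have : g ∈ Subgroup.center G := Subgroup.mem_center_iff.2 fun y => (hc y).symm
  rw [CfsgLib.ThreeTrans.Inst.FiTwentyTwo.center_bot] at this
  exact Subgroup.mem_bot.1 this

theorem eq_of_gpts {g h : G} (e : ∀ q ∈ gpts, P.φ g (pt q) = P.φ h (pt q)) : g = h := by
  rw [← inv_mul_eq_one]
  refine center_trivial fun q hq => ?_
  rw [map_mul, Equiv.Perm.mul_apply, ← e q hq, ← Equiv.Perm.mul_apply, ← map_mul, inv_mul_cancel, map_one,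
    Equiv.Perm.one_apply]

/-- equality of the elements of two words -/
noncomputable def eqW (u v : List ℕ) : Bool :=
  ok u && ok v && gpts.all fun q => Nat.beq (img u q) (img v q)

theorem eqW_spec {u v : List ℕ} (h : eqW u v = true) : evW ev u = evW ev v := by
  simp only [eqW, Bool.and_eq_true, List.all_eq_true] at h
  refine eq_of_gpts fun q hq => ?_
  rw [phi_pt h.1.1 (gpts_lt q hq), phi_pt h.1.2 (gpts_lt q hq), Nat.eq_of_beq_eq_true (h.2 q hq)]

theorem eqW_false {u v : List ℕ} (hu : ok u = true) (hv : ok v = true) (h : eqW u v = false) :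
    evW ev u ≠ evW ev v := by
  intro e
  have : eqW u v = true := by
    simp only [eqW, Bool.and_eq_true, List.all_eq_true]
    refine ⟨⟨hu, hv⟩, fun q hq => ?_⟩
    have h1 := congrArg Fin.val ((phi_pt hu (gpts_lt q hq)).symm.trans (e ▸ phi_pt hv (gpts_lt q hq)))
    rw [pt_val (img_lt hu (gpts_lt q hq)), pt_val (img_lt hv (gpts_lt q hq))] at h1
    rw [h1]
    exact Nat.beq_refl _
  rw [h] at this
  exact Bool.noConfusion this

/-! ### Adjacency -/

theorem commute_a_iff (j : Fin rep.N) : Commute a (P.tp j) ↔ j = o ∨ maskA.testBit (j : ℕ) = true := by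
  have hpos : eqW ([0] ++ tw [1, 2, 0, 1]) (tw [1, 2, 0, 1] ++ [0]) = true := by decide +kernel
  have hneg : eqW ([0] ++ tw [0, 1]) (tw [0, 1] ++ [0]) = false := by decide +kernel
  have hA : Commute a (P.tp (P.φ CfsgLib.ThreeTrans.Inst.FiTwentyTwo.gA o)) := by
    have := eqW_spec hpos
    rw [evW_cat, evW_cat, evW_tw (by decide)] at this
    rw [show o = pt 0 from pt_zero.symm, show CfsgLib.ThreeTrans.Inst.FiTwentyTwo.gA = evW ev [1, 2, 0, 1] from rfl,
      phi_pt (by decide) (VCert.pos Fi22UCert.cert_ok)]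
    exact this
  have hB : ¬ Commute a (P.tp (P.φ CfsgLib.ThreeTrans.Inst.FiTwentyTwo.gB o)) := by
    have := eqW_false (by decide) (by decide) hneg
    rw [evW_cat, evW_cat, evW_tw (by decide)] at this
    rw [show o = pt 0 from pt_zero.symm, show CfsgLib.ThreeTrans.Inst.FiTwentyTwo.gB = evW ev [0, 1] from rfl,
      phi_pt (by decide) (VCert.pos Fi22UCert.cert_ok)]
    exact this
  have mv : ∀ (h : G) (i : Fin rep.N), P.φ h o = o → (Commute a (P.tp (P.φ h i)) ↔ Commute a (P.tp i)) := by
    intro h i ho
    have ha : h * a * h⁻¹ = a := by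
      have hh : h * a = a * h := (P.stab h ho).eq
      rw [hh]
      exact mul_inv_cancel_right _ _
    rw [← P.conj_tp]
    constructor
    · intro hc
      have := (show Commute (h * a * h⁻¹) (h * P.tp i * h⁻¹) by rw [ha]; exact hc).map (MulAut.conj h⁻¹).toMonoidHom
      simpa [mul_assoc] using this
    · intro hc
      have := hc.map (MulAut.conj h).toMonoidHom
      simpa [ha] using this
  constructor
  · intro hc
    rcases CfsgLib.ThreeTrans.Inst.FiTwentyTwo.cover j with h | h | h
    · exact Or.inl h
    · exact Or.inr h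
    · obtain ⟨k, hk, rfl⟩ := CfsgLib.ThreeTrans.Inst.FiTwentyTwo.reachB
        CfsgLib.ThreeTrans.Inst.FiTwentyTwo.gB_bit h
      exact absurd ((mv k _ hk).1 hc) hB
  · rintro (rfl | h)
    · rw [tp_base]
    · obtain ⟨k, hk, rfl⟩ := CfsgLib.ThreeTrans.Inst.FiTwentyTwo.reachA
        CfsgLib.ThreeTrans.Inst.FiTwentyTwo.gA_bit h
      exact (mv k _ hk).2 hA

theorem maskA_o : maskA.testBit 0 = false := by decide +kernel

/-- the points other than `img w 0` commuting with it -/
noncomputable def adj (w : List ℕ) : ℕ := Vec.applyNet (rep.netW w.reverse) maskA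

theorem adj_spec {w : List ℕ} (h : ok w = true) {q : ℕ} (hq : q < rep.N) :
    (adj w).testBit q = true ↔ q ≠ img w 0 ∧ Commute (T (img w 0)) (T q) := by
  have hr := ok_reverse h
  rw [adj, Vec.testBit_applyNet (Rep.netOk_netW rep_valid _), ← img_eq]
  have hq' := img_lt hr hq
  have e : T (img w 0) = evW ev w * a * (evW ev w)⁻¹ := by
    rw [← conj_T h (VCert.pos Fi22UCert.cert_ok), T, pt_zero, tp_base]
  have e2 : T q = evW ev w * T (img w.reverse q) * (evW ev w)⁻¹ := by
    rw [← conj_T hr hq, evW_rev h]
    group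
  have hb : img w.reverse q = 0 ↔ q = img w 0 := by
    constructor
    · intro h0
      have : T q = T (img w 0) := by rw [e2, h0, e, T, pt_zero, tp_base]
      have := congrArg Fin.val (P.tp_injective this)
      rwa [pt_val hq, pt_val (img_lt h (VCert.pos Fi22UCert.cert_ok))] at this
    · intro h0
      have h1 := phi_pt hr hq
      have h2 := phi_pt h (VCert.pos Fi22UCert.cert_ok)
      rw [evW_rev h, h0, ← h2, map_inv, Equiv.Perm.inv_def, Equiv.symm_apply_apply] at h1
      have := (congrArg Fin.val h1).symm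
      rw [← h0] at this
      rwa [pt_val hq', pt_val (VCert.pos Fi22UCert.cert_ok)] at this
  have hiff : Commute (T (img w 0)) (T q) ↔ Commute a (T (img w.reverse q)) := by
    rw [e, e2]
    exact ⟨fun hc => by
      have := hc.map (MulAut.conj (evW ev w)⁻¹).toMonoidHom
      simpa [mul_assoc] using this, fun hc => hc.map (MulAut.conj (evW ev w)).toMonoidHom⟩
  rw [hiff, T, commute_a_iff, ne_eq, ← hb, Fin.ext_iff, pt_val hq']
  constructor
  · intro hm
    exact ⟨fun h0 => by rw [h0, maskA_o] at hm; exact Bool.noConfusion hm, Or.inr hm⟩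
  · rintro ⟨h0, h1 | h1⟩
    · exact absurd h1 h0
    · exact h1

end CfsgLib.Presented.Fi22Pts
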