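import Cfsg.Agent.Lib.Presented.Fi22Pts.OuterDefs

/-! Part of the kernel checks of the certificate. -/
set_option autoImplicit false
set_option maxRecDepth 8000

namespace CfsgLib.Presented.Fi22Pts.Outer

open Fi22UCosets (ev)
open Fi22UCert (rep alphabet)

/-- part of the certificate -/
theorem stagesA : (List.range 9).all stageOK = true := by decide +kernel

end CfsgLib.Presented.Fi22Pts.Outer
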