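import Cfsg.Agent.Lib.Presented.Fi22Pts.OuterDefs

/-! The last conjugations. -/
set_option autoImplicit false
set_option maxRecDepth 8000

namespace CfsgLib.Presented.Fi22Pts.Outer

open Fi22UCosets (ev)
open Fi22UCert (rep alphabet)

theorem finals_ok : (List.range (reps.getD 17 []).length).all (fun k =>
    Nat.blt (finals.getD k (3, [])).1 3 && above 0 (repAt 17 k) &&
    eqW ((finals.getD k (3, [])).2 ++ expand (repAt 17 k) ++ ((finals.getD k (3, [])).2.map pm).reverse)
      (kindWord (finals.getD k (3, [])).1)) = true := by decide +kernel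

end CfsgLib.Presented.Fi22Pts.Outer
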