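import Cfsg.Agent.Lib.Presented.Fi22Pts.OuterCheckA
import Cfsg.Agent.Lib.Presented.Fi22Pts.OuterCheckB
import Cfsg.Agent.Lib.Presented.Fi22Pts.OuterCheckC
import Cfsg.Agent.Lib.Presented.Fi22Pts.OuterCheckD
import Cfsg.Agent.Lib.Presented.Fi22Pts.OuterCheckE
import Cfsg.Agent.Lib.Presented.Fi22Pts.OuterCheckF
import Cfsg.Agent.Lib.Presented.Fi22Pts.OuterCheckG

/-! Kernel checks of the certificate, assembled. -/
set_option autoImplicit false
set_option maxRecDepth 8000

namespace CfsgLib.Presented.Fi22Pts.Outer

open Fi22UCosets (ev)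
open Fi22UCert (rep alphabet)

theorem series_ok : (List.range 17).all seriesOK = true := by
  rw [show List.range 17 = List.range 9 ++ List.range' 9 8 from rfl, List.all_append, seriesA, seriesB]; rfl

theorem stages_ok : (List.range 17).all stageOK = true := by
  rw [show List.range 17 = List.range 9 ++ List.range' 9 4 ++ List.range' 13 2 ++ List.range' 15 2 from rfl,
    List.all_append, List.all_append, List.all_append, stagesA, stagesB, stagesC, stagesD]; rfl

end CfsgLib.Presented.Fi22Pts.Outer
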