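import Cfsg.Agent.Lib.Presented.Fi22Pts.OuterCheck
import Cfsg.Agent.Lib.Presented.Fi22Pts.Parity
import Cfsg.Agent.Lib.ThreeTrans.Uniq.AutTop22
import Cfsg.Agent.Lib.ThreeTrans.Inst.FiTwentyTwoModel

/-!
Outer involutions of the presented Fischer group on 22 letters: every one is conjugate to the flip, to the flip
times a transposition or to the flip times two commuting transpositions, and these three are not conjugate.
-/
set_option autoImplicit false
set_option maxRecDepth 8000

namespace CfsgLib.Presented.Fi22Pts.Outer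

open CfsgLib.ThreeTrans.Inst.FiTwentyTwo (P a o D evW_cat isGroup primitive typeM22 finite_fi22)
open Fi22UCosets (ev phi rep_valid)
open Fi22UCert (rep alphabet)

/-- a generator of the series -/
noncomputable def g (i : ℕ) : G := evW ev (gw.getD i [])

/-- the terms of the series -/
noncomputable def Sub (j : ℕ) : Subgroup G := Subgroup.closure (g '' {i | j ≤ i ∧ i < 17})

theorem evW_nil' : evW ev ([] : List ℕ) = 1 := rfl

theorem expand_cons (i : ℕ) (l : List ℕ) : expand (i :: l) = gw.getD i [] ++ expand l := by simp [expand]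

theorem evW_expand : ∀ l : List ℕ, evW ev (expand l) = (l.map g).prod
  | [] => rfl
  | i :: l => by rw [expand_cons, evW_cat, evW_expand l, List.map_cons, List.prod_cons, g]

theorem ok_gw {i : ℕ} (hi : i < 17) : ok (gw.getD i []) = true :=
  List.all_eq_true.1 gw_ok i (List.mem_range.2 hi)

theorem above_spec {j : ℕ} {l : List ℕ} (h : above j l = true) : ∀ i ∈ l, j ≤ i ∧ i < 17 := fun i hi => by
  have := List.all_eq_true.1 h i hi
  rwa [Bool.and_eq_true, Nat.ble_eq, Nat.blt_eq] at this

theorem ok_expand : ∀ {l : List ℕ}, (∀ i ∈ l, i < 17) → ok (expand l) = true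
  | [], _ => rfl
  | i :: l, h => by
    rw [expand_cons, ok_append, ok_gw (h i List.mem_cons_self), ok_expand fun k hk => h k (List.mem_cons_of_mem _ hk)]
    rfl

theorem expand_mem {j : ℕ} {l : List ℕ} (h : above j l = true) : evW ev (expand l) ∈ Sub j := by
  rw [evW_expand]
  refine Subgroup.list_prod_mem _ fun x hx => ?_
  obtain ⟨i, hi, rfl⟩ := List.mem_map.1 hx
  exact Subgroup.subset_closure ⟨i, above_spec h i hi, rfl⟩

theorem Sub_anti {i j : ℕ} (h : i ≤ j) : Sub j ≤ Sub i :=
  Subgroup.closure_mono (Set.image_mono fun _ hk => ⟨h.trans hk.1, hk.2⟩)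

theorem Sub_top : Sub 17 = ⊥ := by
  rw [Sub, show {i : ℕ | 17 ≤ i ∧ i < 17} = ∅ from Set.eq_empty_of_forall_notMem fun i hi => by
    have := hi.1; have := hi.2; omega, Set.image_empty, Subgroup.closure_empty]

theorem series_spec {i : ℕ} (hi : i < 17) :
    flipHom (g i) ∈ Sub i ∧ g i * g i ∈ Sub (i + 1) ∧ ∀ j, j < 17 → g i * g j * (g i)⁻¹ ∈ Sub j := by
  have h := List.all_eq_true.1 series_ok i (List.mem_range.2 hi)
  simp only [seriesOK, Bool.and_eq_true] at h
  obtain ⟨⟨⟨⟨h1, h2⟩, h3⟩, h4⟩, h5⟩ := h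
  refine ⟨?_, ?_, fun j hj => ?_⟩
  · rw [g, flipHom_word (ok_gw hi), eqW_spec h1]; exact expand_mem h2
  · rw [g, ← evW_cat, eqW_spec h3]; exact expand_mem h4
  · have h6 := List.all_eq_true.1 h5 j (List.mem_range.2 hj)
    rw [Bool.and_eq_true] at h6
    rw [g, g, ← evW_rev (ok_gw hi), ← evW_cat, ← evW_cat, eqW_spec h6.1]
    exact expand_mem h6.2

theorem flip_mem {j : ℕ} {x : G} (hx : x ∈ Sub j) : flipHom x ∈ Sub j := by
  induction hx using Subgroup.closure_induction with
  | mem z hz =>
    obtain ⟨i, hi, rfl⟩ := hz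
    exact Sub_anti hi.1 (series_spec hi.2).1
  | one => rw [map_one]; exact one_mem _
  | mul u v _ _ hu hv => rw [map_mul]; exact mul_mem hu hv
  | inv u _ hu => rw [map_inv]; exact inv_mem hu

theorem mem_normalizer_fin {K : Type*} [Group K] [Finite K] {H : Subgroup K} {x : K}
    (h : ∀ y ∈ H, x * y * x⁻¹ ∈ H) : x ∈ Subgroup.normalizer (H : Set K) := by
  have hle : H.map (MulAut.conj x).toMonoidHom ≤ H := by
    rintro _ ⟨y, hy, rfl⟩
    exact h y hy
  have he : H.map (MulAut.conj x).toMonoidHom = H := Subgroup.eq_of_le_of_card_ge hle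
    (Nat.card_congr (Subgroup.equivMapOfInjective H _ (MulAut.conj x).injective).toEquiv).le
  refine Subgroup.mem_normalizer_iff.2 fun y => ⟨h y, fun hy => ?_⟩
  rw [← he] at hy
  obtain ⟨z, hz, e⟩ := hy
  have : z = y := (MulAut.conj x).injective e
  exact this ▸ hz

/-- Every term is normal in the first one. -/
theorem conj_mem {j : ℕ} {x y : G} (hx : x ∈ Sub 0) (hy : y ∈ Sub j) : x * y * x⁻¹ ∈ Sub j := by
  haveI := finite_fi22
  have hN : Sub 0 ≤ Subgroup.normalizer ((Sub j : Subgroup G) : Set G) := by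
    rw [Sub, Subgroup.closure_le]
    rintro _ ⟨i, hi, rfl⟩
    refine mem_normalizer_fin fun y hy => ?_
    induction hy using Subgroup.closure_induction with
    | mem z hz =>
      obtain ⟨k, hk, rfl⟩ := hz
      exact Sub_anti hk.1 ((series_spec hi.2).2.2 k hk.2)
    | one => simp
    | mul u v _ _ hu hv => simpa [mul_assoc] using mul_mem hu hv
    | inv u _ hu => simpa [mul_assoc] using inv_mem hu
  exact (Subgroup.mem_normalizer_iff.1 (hN hx) y).1 hy

theorem mem_split {j : ℕ} (hj : j < 17) {x : G} (hx : x ∈ Sub j) : x ∈ Sub (j + 1) ∨ ∃ y ∈ Sub (j + 1), x = g j * y := by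
  have hg : g j ∈ Sub 0 := Subgroup.subset_closure ⟨j, ⟨Nat.zero_le _, hj⟩, rfl⟩
  have hsq : g j * g j ∈ Sub (j + 1) := (series_spec hj).2.1
  have hmove : ∀ y ∈ Sub (j + 1), ∃ y' ∈ Sub (j + 1), y * g j = g j * y' := fun y hy =>
    ⟨(g j)⁻¹ * y * g j, by simpa using conj_mem (inv_mem hg) hy, by group⟩
  let p : G → Prop := fun x => x ∈ Sub (j + 1) ∨ ∃ y ∈ Sub (j + 1), x = g j * y
  show p x
  induction hx using Subgroup.closure_induction with
  | mem z hz =>
    obtain ⟨i, ⟨hi, hi'⟩, rfl⟩ := hz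
    rcases Nat.eq_or_lt_of_le hi with rfl | h
    · exact Or.inr ⟨1, one_mem _, (mul_one _).symm⟩
    · exact Or.inl (Subgroup.subset_closure ⟨i, ⟨h, hi'⟩, rfl⟩)
  | one => exact Or.inl (one_mem _)
  | mul u v _ _ hu hv =>
    rcases hu with hu | ⟨a, ha, rfl⟩ <;> rcases hv with hv | ⟨b, hb, rfl⟩
    · exact Or.inl (mul_mem hu hv)
    · obtain ⟨u', hu', e⟩ := hmove u hu
      exact Or.inr ⟨u' * b, mul_mem hu' hb, by rw [← mul_assoc, e, mul_assoc]⟩
    · exact Or.inr ⟨a * v, mul_mem ha hv, mul_assoc _ _ _⟩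
    · obtain ⟨a', ha', e⟩ := hmove a ha
      refine Or.inl ?_
      rw [show g j * a * (g j * b) = g j * g j * a' * b by
        rw [mul_assoc (g j) a, ← mul_assoc a (g j), e]; group]
      exact mul_mem (mul_mem hsq ha') hb
  | inv u _ hu =>
    rcases hu with hu | ⟨a, ha, rfl⟩
    · exact Or.inl (inv_mem hu)
    · obtain ⟨a', ha', e⟩ := hmove a⁻¹ (inv_mem ha)
      refine Or.inr ⟨(g j * g j)⁻¹ * g j * a⁻¹ * (g j)⁻¹ * (g j * g j) * (g j * g j)⁻¹, ?_, by group⟩
      have h1 := conj_mem hg (inv_mem ha)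
      simpa [mul_assoc] using mul_mem (inv_mem hsq) h1

theorem g_notMem {j : ℕ} (hj : j < 17) : g j ∉ Sub (j + 1) := by
  haveI := finite_fi22
  intro hmem
  have h := List.all_eq_true.1 orbs_ok j (List.mem_range.2 hj)
  simp only [Bool.and_eq_true, List.all_eq_true, List.any_eq_true, List.mem_range, Bool.or_eq_true, Nat.blt_eq,
    Nat.ble_eq, Bool.not_eq_true'] at h
  obtain ⟨⟨hlt, hstab⟩, q, hq, hout⟩ := h
  set s : Set (Fin rep.N) := {i | (i : ℕ) ∈ orbs.getD j []} with hs
  have hle : ∀ x ∈ Sub (j + 1), ∀ i ∈ s, P.φ x i ∈ s := by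
    intro x hx
    induction hx using Subgroup.closure_induction with
    | mem z hz =>
      obtain ⟨k, hk, rfl⟩ := hz
      intro i hi
      obtain ⟨r, hr, e⟩ := (hstab k hk.2).resolve_left (by have := hk.1; omega) i hi
      rw [← pt_self i, g, phi_pt (ok_gw hk.2) (show (i : ℕ) < rep.N from i.2)]
      show (pt _ : ℕ) ∈ orbs.getD j []
      rw [pt_val (img_lt (ok_gw hk.2) i.2), Nat.eq_of_beq_eq_true e]
      exact hr
    | one => intro i hi; simpa using hi
    | mul u v _ _ hu hv => intro i hi; rw [map_mul, Equiv.Perm.mul_apply]; exact hu _ (hv _ hi)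
    | inv u _ hu =>
      intro i hi
      obtain ⟨n, hn⟩ : ∃ n : ℕ, u⁻¹ = u ^ n := ⟨orderOf u - 1, by
        refine inv_eq_of_mul_eq_one_right ?_
        rw [← pow_succ', Nat.sub_add_cancel (orderOf_pos u), pow_orderOf_eq_one]⟩
      rw [hn]
      clear hn
      induction n with
      | zero => simpa using hi
      | succ n ihn => rw [pow_succ', map_mul, Equiv.Perm.mul_apply]; exact hu _ ihn
  have hqlt : q < rep.N := hlt q hq
  have h1 := hle _ hmem (pt q) (show (pt q : ℕ) ∈ _ by rw [pt_val hqlt]; exact hq)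
  rw [g, phi_pt (ok_gw hj) hqlt] at h1
  have h2 : img (gw.getD j []) q ∈ orbs.getD j [] := by
    have h3 : (pt (img (gw.getD j []) q) : ℕ) ∈ orbs.getD j [] := h1
    rwa [pt_val (img_lt (ok_gw hj) hqlt)] at h3
  rw [List.any_eq_false] at hout
  exact hout _ h2 (Nat.beq_refl _)

theorem card_Sub : ∀ k, k ≤ 17 → 2 ^ k ≤ Nat.card (Sub (17 - k)) := by
  haveI := finite_fi22
  intro k hk
  induction k with
  | zero => simpa using Nat.one_le_iff_ne_zero.2 Nat.card_pos.ne'
  | succ k ih =>
    have h1 := ih (by omega)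
    have hj : 17 - (k + 1) < 17 := by omega
    have e : 17 - (k + 1) + 1 = 17 - k := by omega
    have hle : Sub (17 - k) ≤ Sub (17 - (k + 1)) := Sub_anti (by omega)
    have hdvd := Subgroup.card_dvd_of_le hle
    obtain ⟨m, hm⟩ := hdvd
    have hne : Sub (17 - k) ≠ Sub (17 - (k + 1)) := fun h => g_notMem hj (by
      rw [e, h]; exact Subgroup.subset_closure ⟨_, ⟨le_rfl, hj⟩, rfl⟩)
    have hm2 : 2 ≤ m := by
      rcases m with _ | _ | m
      · simp [Nat.card_pos.ne'] at hm
      · exact absurd (Subgroup.eq_of_le_of_card_ge hle (by omega)) hne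
      · omega
    rw [hm, pow_succ]
    exact Nat.mul_le_mul h1 hm2

theorem isPGroup_Sub : ∀ k, k ≤ 17 → IsPGroup 2 (Sub (17 - k)) := by
  haveI := finite_fi22
  intro k hk
  induction k with
  | zero =>
    rw [show 17 - 0 = 17 from rfl, Sub_top]
    exact IsPGroup.of_bot
  | succ k ih =>
    have h1 := ih (by omega)
    have hj : 17 - (k + 1) < 17 := by omega
    have e : 17 - (k + 1) + 1 = 17 - k := by omega
    rintro ⟨x, hx⟩
    have hsq : x * x ∈ Sub (17 - k) := by
      rw [← e]
      rcases mem_split hj hx with h | ⟨y, hy, rfl⟩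
      · exact mul_mem h h
      · have hg : g (17 - (k + 1)) ∈ Sub 0 := Subgroup.subset_closure ⟨_, ⟨Nat.zero_le _, hj⟩, rfl⟩
        have h2 := mul_mem (mul_mem (conj_mem hg hy) (series_spec hj).2.1) hy
        simpa [mul_assoc] using h2
    obtain ⟨n, hn⟩ := h1 ⟨x * x, hsq⟩
    refine ⟨n + 1, Subtype.ext ?_⟩
    have := congrArg Subtype.val hn
    simp only [SubmonoidClass.coe_pow, OneMemClass.coe_one] at this ⊢
    rw [pow_succ', pow_mul, pow_two]
    exact this

/-! ### The automorphisms -/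

/-- an inner automorphism after the flip -/
noncomputable def tau (u : G) : MulAut G := MulAut.conj u * S

theorem tau_apply (u x : G) : tau u x = u * flipHom x * u⁻¹ := rfl

theorem tau_mul_tau (u v : G) : tau u * tau v = MulAut.conj (u * flipHom v) := by
  refine MulEquiv.ext fun x => ?_
  show u * flipHom (v * flipHom x * v⁻¹) * u⁻¹ = u * flipHom v * x * (u * flipHom v)⁻¹
  rw [map_mul, map_mul, map_inv, flipHom_flipHom, mul_inv_rev]
  simp only [mul_assoc]

theorem isConj_tau (h u : G) : IsConj (tau u) (tau (h * u * (flipHom h)⁻¹)) := by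
  refine isConj_iff.2 ⟨MulAut.conj h, ?_⟩
  rw [← map_inv]
  refine MulEquiv.ext fun x => ?_
  show h * (u * flipHom (h⁻¹ * x * h⁻¹⁻¹) * u⁻¹) * h⁻¹ = h * u * (flipHom h)⁻¹ * flipHom x * (h * u * (flipHom h)⁻¹)⁻¹
  rw [map_mul, map_mul, map_inv, inv_inv, mul_inv_rev, mul_inv_rev, inv_inv]
  simp only [mul_assoc]

theorem conj_eq_one {u : G} (h : MulAut.conj u = 1) : u = 1 := by
  have hc : u ∈ Subgroup.center G := Subgroup.mem_center_iff.2 fun x => by
    have := DFunLike.congr_fun h x
    rw [MulAut.conj_apply, MulAut.one_apply, mul_inv_eq_iff_eq_mul] at this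
    exact this.symm
  rw [CfsgLib.ThreeTrans.Inst.FiTwentyTwo.center_bot] at hc
  exact Subgroup.mem_bot.1 hc

theorem mem_D_T {x : G} (hx : x ∈ D) : ∃ q, q < rep.N ∧ T q = x := by
  obtain ⟨j, rfl⟩ := P.tp_surj hx
  exact ⟨j, j.2, by rw [T, pt_self]⟩

theorem tau_fix {w : List ℕ} (h : ok w = true) {q : ℕ} (hq : q < rep.N) :
    tau (evW ev w) (T q) = T q ↔ img w (sig q) = q := by
  rw [tau_apply, flip_T hq, conj_T h (sig_lt hq)]
  refine ⟨fun e => ?_, fun e => by rw [e]⟩
  have := congrArg Fin.val (P.tp_injective e)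
  rwa [pt_val (img_lt h (sig_lt hq)), pt_val hq] at this

/-- the number of transpositions fixed by an automorphism -/
noncomputable def nfix (t : MulAut G) : ℕ := {x ∈ D | t x = x}.ncard

theorem natRec_count (f : ℕ → Bool) : ∀ n, Nat.rec (motive := fun _ => ℕ) 0
    (fun q ih => cond (f q) (Nat.succ ih) ih) n = ((Finset.range n).filter fun q => f q = true).card
  | 0 => rfl
  | n + 1 => by
    show cond (f n) (Nat.succ _) _ = _
    rw [natRec_count f n, Finset.range_add_one, Finset.filter_insert]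
    cases h : f n
    · simp
    · simp [Finset.card_insert_of_notMem]

theorem nfix_tau {w : List ℕ} (h : ok w = true) : nfix (tau (evW ev w)) = fixCount w := by
  rw [fixCount, natRec_count, nfix, ← Set.ncard_coe_finset, ← Set.ncard_image_of_injOn (f := T)]
  · congr 1
    ext x
    simp only [Set.mem_setOf_eq, Set.mem_image, Finset.coe_filter, Finset.mem_range]
    constructor
    · rintro ⟨hx, hfix⟩
      obtain ⟨q, hq, rfl⟩ := mem_D_T hx
      exact ⟨q, ⟨hq, by rw [(tau_fix h hq).1 hfix]; exact Nat.beq_refl _⟩, rfl⟩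
    · rintro ⟨q, ⟨hq, e⟩, rfl⟩
      exact ⟨P.tp_mem _, (tau_fix h hq).2 (Nat.eq_of_beq_eq_true e)⟩
  · intro p hp q hq e
    simp only [Finset.coe_filter, Finset.mem_range, Set.mem_setOf_eq] at hp hq
    have := congrArg Fin.val (P.tp_injective e)
    rwa [pt_val (show p < rep.N from hp.1), pt_val (show q < rep.N from hq.1)] at this

theorem nfix_conj {t t' : MulAut G} (h : IsConj t t') : nfix t = nfix t' := by
  haveI := finite_fi22
  have key : ∀ s s' c : MulAut G, c * s * c⁻¹ = s' → nfix s ≤ nfix s' := by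
    intro s s' c e
    refine Set.ncard_le_ncard_of_injOn c (fun x hx => ?_) c.injective.injOn
    refine ⟨CfsgLib.ThreeTrans.Uniq.mapsTo22 isGroup primitive typeM22 c hx.1, ?_⟩
    rw [← e]
    show c (s (c⁻¹ (c x))) = c x
    rw [MulAut.inv_apply_self, hx.2]
  obtain ⟨c, hc⟩ := isConj_iff.1 h
  refine le_antisymm (key _ _ c hc) (key _ _ c⁻¹ ?_)
  rw [← hc]; group

/-- one refinement step, for one child -/
theorem kid_spec {i : ℕ} (hi : i < 17) {c : List ℕ} (hc : above 0 c = true) {K : Kid}
    (hK : kidOK i c K = true) {u v : G} (hv : v ∈ Sub (i + 1)) (hu : u = evW ev (expand c) * v)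
    (hinv : u * flipHom u = 1) :
    ∃ r, r < (reps.getD (i + 1) []).length ∧ ∃ x ∈ Sub 0, ∃ k ∈ Sub (i + 1),
      x * u * (flipHom x)⁻¹ = evW ev (expand (repAt (i + 1) r)) * k := by
  have hcmem : evW ev (expand c) ∈ Sub 0 := expand_mem hc
  have hcok : ok (expand c) = true := ok_expand fun k hk => (above_spec hc k hk).2
  cases K with
  | dead m t =>
    exfalso
    simp only [kidOK, Bool.and_eq_true, Nat.ble_eq] at hK
    obtain ⟨⟨hm, ht⟩, he⟩ := hK
    have heq := eqW_spec he
    rw [evW_cat, ← flipHom_word hcok, expand_cons, evW_cat] at heq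
    set C := evW ev (expand c) with hC
    have h1 : C * flipHom C ∈ Sub (i + 1) := by
      subst hu
      rw [map_mul] at hinv
      have h2 : C * flipHom C = C * v⁻¹ * C⁻¹ * (flipHom v)⁻¹ := by
        rw [eq_mul_inv_iff_mul_eq, ← mul_right_inj (C * v * C⁻¹)]
        calc C * v * C⁻¹ * (C * flipHom C * flipHom v) = C * v * (flipHom C * flipHom v) := by group
          _ = 1 := hinv
          _ = C * v * C⁻¹ * (C * v⁻¹ * C⁻¹) := by group
      rw [h2]
      exact mul_mem (conj_mem hcmem (inv_mem hv)) (inv_mem (flip_mem hv))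
    have hm' : m < 17 := by omega
    rw [heq] at h1
    have ht' := expand_mem ht
    refine g_notMem hm' ?_
    have := mul_mem (Sub_anti (by omega) h1) (inv_mem ht')
    simpa [g] using this
  | move xs r t =>
    simp only [kidOK, Bool.and_eq_true, Nat.blt_eq] at hK
    obtain ⟨⟨⟨hr, hxs⟩, ht⟩, he⟩ := hK
    have hxok : ok (expand xs) = true := ok_expand fun k hk => (above_spec hxs k hk).2
    have hxmem : evW ev (expand xs) ∈ Sub 0 := expand_mem hxs
    have heq := eqW_spec he
    rw [evW_cat, evW_cat, evW_rev hxok, ← flipHom_word hxok] at heq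
    set X := evW ev (expand xs) with hX
    set C := evW ev (expand c) with hC
    refine ⟨r, hr, X⁻¹, inv_mem hxmem, evW ev (expand t) * ((flipHom X)⁻¹ * v * flipHom X), ?_, ?_⟩
    · refine mul_mem (expand_mem ht) ?_
      simpa using conj_mem (inv_mem (flip_mem hxmem)) hv
    · rw [← mul_assoc, show evW ev (expand (repAt (i + 1) r)) * evW ev (expand t) =
          evW ev (expand (repAt (i + 1) r ++ t)) by
            rw [evW_expand, evW_expand, evW_expand, List.map_append, List.prod_append],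
        ← heq, hu, map_inv, inv_inv]
      group

/-- The refinement. -/
theorem refine_stage : ∀ i, i ≤ 17 → ∀ u ∈ Sub 0, u * flipHom u = 1 →
    ∃ r, r < (reps.getD i []).length ∧ ∃ x ∈ Sub 0, ∃ k ∈ Sub i,
      x * u * (flipHom x)⁻¹ = evW ev (expand (repAt i r)) * k := by
  intro i hi
  induction i with
  | zero =>
    intro u hu _
    refine ⟨0, by rw [start_ok]; decide, 1, one_mem _, u, hu, ?_⟩
    rw [repAt, start_ok]
    simp [expand]
  | succ i ih =>
    intro u hu hinv
    obtain ⟨r, hr, x, hx, k, hk, e⟩ := ih (by omega) u hu hinv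
    have hst := List.all_eq_true.1 (List.all_eq_true.1 stages_ok i (List.mem_range.2 (by omega)))
      r (List.mem_range.2 hr)
    simp only [Bool.and_eq_true] at hst
    obtain ⟨⟨hrep, hk0⟩, hk1⟩ := hst
    set u' := x * u * (flipHom x)⁻¹ with hu'
    have hinv' : u' * flipHom u' = 1 := by
      rw [hu', map_mul, map_mul, map_inv, flipHom_flipHom]
      rw [show x * u * (flipHom x)⁻¹ * (flipHom x * flipHom u * x⁻¹) = x * (u * flipHom u) * x⁻¹ by group, hinv,
        mul_one, mul_inv_cancel]
    obtain ⟨b, K, hK, v, hv, hu''⟩ : ∃ (b : Bool) (K : Kid), kidOK i (child i r b) K = true ∧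
        ∃ v ∈ Sub (i + 1), u' = evW ev (expand (child i r b)) * v := by
      rcases mem_split (by omega) hk with hk' | ⟨y, hy, rfl⟩
      · exact ⟨false, _, hk0, k, hk', e⟩
      · refine ⟨true, _, hk1, y, hy, ?_⟩
        rw [e, child, cond_true, evW_expand, evW_expand, List.map_append, List.prod_append, List.map_singleton,
          List.prod_singleton, mul_assoc]
    have hc : above 0 (child i r b) = true := by
      cases b
      · exact hrep
      · rw [child, cond_true, above, List.all_append, ← above, hrep]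
        simp [Nat.ble_eq, Nat.blt_eq]
        omega
    obtain ⟨r', hr', x', hx', k', hk', e'⟩ := kid_spec (by omega) hc hK hv hu'' hinv'
    refine ⟨r', hr', x' * x, mul_mem hx' hx, k', hk', ?_⟩
    rw [← e', hu', map_mul, mul_inv_rev]
    simp only [mul_assoc]

theorem ok_kindWord (k : ℕ) : ok (kindWord k) = true := by
  rcases k with _ | _ | k
  · decide
  · decide
  · show ok (tw wordA ++ tw wordB) = true
    decide

theorem classify_series {u : G} (hu : u ∈ Sub 0) (h : u * flipHom u = 1) :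
    ∃ k, k < 3 ∧ IsConj (tau u) (tau (evW ev (kindWord k))) := by
  obtain ⟨r, hr, x, hx, k, hk, e⟩ := refine_stage 17 le_rfl u hu h
  rw [Sub_top, Subgroup.mem_bot] at hk
  rw [hk, mul_one] at e
  have hf := List.all_eq_true.1 finals_ok r (List.mem_range.2 hr)
  simp only [Bool.and_eq_true, Nat.blt_eq] at hf
  obtain ⟨⟨hk3, habove⟩, he⟩ := hf
  refine ⟨_, hk3, ?_⟩
  have hh : ok (finals.getD r (3, [])).2 = true := by
    simp only [eqW, Bool.and_eq_true, ok_append] at he
    exact he.1.1.1.1
  have heq := eqW_spec he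
  rw [evW_cat, evW_cat, evW_rev (ok_map hh), ← flipHom_word hh, ← e] at heq
  have h1 := isConj_tau x u
  have h2 := isConj_tau (evW ev (finals.getD r (3, [])).2) (x * u * (flipHom x)⁻¹)
  rw [heq] at h2
  exact h1.trans h2

theorem not_inner (k : ℕ) : tau (evW ev (kindWord k)) ∉ (MulAut.conj : G →* MulAut G).range := by
  suffices hS : S ∉ (MulAut.conj : G →* MulAut G).range by
    intro hmem
    have := mul_mem (inv_mem (show MulAut.conj (evW ev (kindWord k)) ∈ (MulAut.conj : G →* MulAut G).range from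
      ⟨_, rfl⟩)) hmem
    rw [tau, inv_mul_cancel_left] at this
    exact hS this
  rintro ⟨y, hy⟩
  have hmap : ∀ i : Fin rep.N, (P.φ y i : ℕ) = sig i := fun i => by
    have h1 : y * T i * y⁻¹ = T (sig i) := by
      rw [← flip_T i.2, ← S_apply, ← hy, MulAut.conj_apply]
    rw [T, P.conj_tp, pt_self, T] at h1
    rw [P.tp_injective h1, pt_val (sig_lt i.2)]
  set π := P.φ y with hπ
  have hsq : π ^ 2 = 1 := by
    rw [hπ, pow_two, ← map_mul]
    have : MulAut.conj (y * y) = 1 := by rw [map_mul, hy]; exact S_mul_S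
    rw [conj_eq_one this, map_one]
  have hfixed : (Finset.univ.filter fun i => π i = i).card = 360 := by
    rw [← counts_ok.1, fixCount, natRec_count, ← Finset.card_map Fin.valEmbedding]
    refine congrArg Finset.card ?_
    ext n
    simp only [Finset.mem_map, Finset.mem_filter, Finset.mem_univ, true_and, Fin.valEmbedding_apply,
      Finset.mem_range]
    constructor
    · rintro ⟨i, hi, rfl⟩
      refine ⟨i.2, ?_⟩
      show Nat.beq (sig i) i = true
      rw [← hmap i, hi]
      exact Nat.beq_refl _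
    · rintro ⟨hn, e⟩
      exact ⟨⟨n, hn⟩, Fin.ext ((hmap ⟨n, hn⟩).trans (Nat.eq_of_beq_eq_true e)), rfl⟩
  have hsupp : π.support.card = 2 * 1575 := by
    have h1 := Finset.card_filter_add_card_filter_not
      (s := (Finset.univ : Finset (Fin rep.N))) (p := fun i => π i = i)
    rw [hfixed, Finset.card_univ, Fintype.card_fin] at h1
    have h2 : (Finset.univ.filter fun i => ¬ π i = i) = π.support := rfl
    rw [h2] at h1
    have h3 : rep.N = 3510 := by decide +kernel
    omega
  have hne : π ≠ 1 := by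
    intro e
    rw [e, Equiv.Perm.support_one, Finset.card_empty] at hsupp
    omega
  have : Fact (Nat.Prime 2) := ⟨Nat.prime_two⟩
  obtain ⟨n, hn⟩ := Equiv.Perm.cycleType_prime_order (orderOf_eq_prime hsq hne ▸ Nat.prime_two)
  rw [orderOf_eq_prime hsq hne] at hn
  have hsum := Equiv.Perm.sum_cycleType π
  rw [hn, Multiset.sum_replicate, smul_eq_mul, hsupp] at hsum
  have hsign := sign_phi y
  rw [← hπ, Equiv.Perm.sign_of_cycleType, hn, Multiset.sum_replicate, Multiset.card_replicate, smul_eq_mul] at hsign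
  have hodd : Odd ((n + 1) * 2 + (n + 1)) := by
    rw [show n + 1 = 1575 by omega]
    exact ⟨2362, by norm_num⟩
  rw [hodd.neg_one_pow] at hsign
  exact absurd hsign (by decide)

/-- Every outer involution is conjugate to one of three. -/
theorem classify {t : MulAut G} (ht : orderOf t = 2) (hout : t ∉ (MulAut.conj : G →* MulAut G).range) :
    ∃ k, k < 3 ∧ IsConj t (tau (evW ev (kindWord k))) := by
  haveI := finite_fi22
  haveI : Fact (Nat.Prime 2) := ⟨Nat.prime_two⟩
  haveI : Finite (MulAut G) := Finite.of_injective (fun e : MulAut G => (e : G → G)) DFunLike.coe_injective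
  let A : Subgroup (MulAut G) := (Sub 0).map (MulAut.conj : G →* MulAut G)
  have hSA : S ∈ Subgroup.normalizer (A : Set (MulAut G)) := by
    refine mem_normalizer_fin ?_
    rintro _ ⟨x, hx, rfl⟩
    refine ⟨flipHom x, flip_mem hx, MulEquiv.ext fun z => ?_⟩
    rw [show S⁻¹ = S from inv_eq_of_mul_eq_one_left S_mul_S]
    show flipHom x * z * (flipHom x)⁻¹ = flipHom (x * flipHom z * x⁻¹)
    rw [map_mul, map_mul, map_inv, flipHom_flipHom]
  let B : Subgroup (MulAut G) :=
    { carrier := {t | t ∈ A ∨ ∃ a ∈ A, t = a * S}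
      one_mem' := Or.inl (one_mem A)
      mul_mem' := by
        have hSS : S⁻¹ = S := inv_eq_of_mul_eq_one_left S_mul_S
        have hcS : ∀ a ∈ A, S * a * S ∈ A := fun a ha => by
          have := (Subgroup.mem_normalizer_iff.1 hSA a).1 ha
          rwa [hSS] at this
        rintro p q (hp | ⟨a, ha, rfl⟩) (hq | ⟨b, hb, rfl⟩)
        · exact Or.inl (mul_mem hp hq)
        · exact Or.inr ⟨p * b, mul_mem hp hb, (mul_assoc _ _ _).symm⟩
        · refine Or.inr ⟨a * (S * q * S), mul_mem ha (hcS q hq), ?_⟩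
          simp only [mul_assoc, S_mul_S, mul_one]
        · refine Or.inl ?_
          rw [show a * S * (b * S) = a * (S * b * S) by simp only [mul_assoc]]
          exact mul_mem ha (hcS b hb)
      inv_mem' := by
        have hSS : S⁻¹ = S := inv_eq_of_mul_eq_one_left S_mul_S
        rintro p (hp | ⟨a, ha, rfl⟩)
        · exact Or.inl (inv_mem hp)
        · refine Or.inr ⟨S * a⁻¹ * S, ?_, ?_⟩
          · have := (Subgroup.mem_normalizer_iff.1 hSA a⁻¹).1 (inv_mem ha)
            rwa [hSS] at this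
          · rw [mul_inv_rev, hSS, mul_assoc (S * a⁻¹), S_mul_S, mul_one] }
  have hAinj : Function.Injective (MulAut.conj : G →* MulAut G) := fun x y e => by
    have : MulAut.conj (x * y⁻¹) = 1 := by rw [map_mul, map_inv, e, mul_inv_cancel]
    exact mul_inv_eq_one.1 (conj_eq_one this)
  have hAcard : 2 ^ 17 ≤ Nat.card A := by
    rw [← Nat.card_congr (Subgroup.equivMapOfInjective (Sub 0) _ hAinj).toEquiv]
    exact card_Sub 17 le_rfl
  have hAp : IsPGroup 2 A := (isPGroup_Sub 17 le_rfl).map _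
  have hAB : A ≤ B := fun x hx => Or.inl hx
  have hBp : IsPGroup 2 B := by
    rintro ⟨p, hp⟩
    have hsq : p * p ∈ A := by
      rcases hp with hp | ⟨a, ha, rfl⟩
      · exact mul_mem hp hp
      · have := (Subgroup.mem_normalizer_iff.1 hSA a).1 ha
        rw [inv_eq_of_mul_eq_one_left S_mul_S] at this
        rw [show a * S * (a * S) = a * (S * a * S) by simp only [mul_assoc]]
        exact mul_mem ha this
    obtain ⟨n, hn⟩ := hAp ⟨p * p, hsq⟩
    refine ⟨n + 1, Subtype.ext ?_⟩
    have := congrArg Subtype.val hn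
    simp only [SubmonoidClass.coe_pow, OneMemClass.coe_one] at this ⊢
    rw [pow_succ', pow_mul, pow_two]
    exact this
  have hSB : S ∈ B := Or.inr ⟨1, one_mem _, (one_mul _).symm⟩
  have hSA' : S ∉ A := fun ⟨x, _, hx⟩ => not_inner 0 ⟨x, by rw [hx, kindWord, evW_nil', tau, map_one, one_mul]⟩
  have hBcard : 2 ^ 18 ≤ Nat.card B := by
    obtain ⟨m, hm⟩ := Subgroup.card_dvd_of_le hAB
    have hm2 : 2 ≤ m := by
      rcases m with _ | _ | m
      · simp [Nat.card_pos.ne'] at hm
      · exact absurd (Subgroup.eq_of_le_of_card_ge hAB (by omega) ▸ hSB) hSA'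
      · omega
    rw [hm, pow_succ]
    exact Nat.mul_le_mul hAcard hm2
  obtain ⟨Q, hQ⟩ := hBp.exists_le_sylow
  have hQcard : Nat.card Q = 2 ^ 18 := by
    rw [Q.card_eq_multiplicity, (CfsgLib.ThreeTrans.Uniq.card_mulAut22 isGroup primitive typeM22).1,
      Fi22Order.card_eq, Nat.factorization_def _ Nat.prime_two,
      show 2 * 64561751654400 = 2 ^ 18 * 492567075 by norm_num, padicValNat.mul (by norm_num) (by norm_num),
      padicValNat.prime_pow, padicValNat.eq_zero_of_not_dvd (by norm_num)]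
  have hBQ : B = (Q : Subgroup (MulAut G)) := Subgroup.eq_of_le_of_card_ge hQ (by rw [hQcard]; exact hBcard)
  obtain ⟨R, hR⟩ := (IsPGroup.of_card (n := 1) (by rw [Nat.card_zpowers, ht, pow_one]) :
    IsPGroup 2 (Subgroup.zpowers t)).exists_le_sylow
  obtain ⟨c, hc⟩ := MulAction.exists_smul_eq (MulAut G) R Q
  have hmem : c * t * c⁻¹ ∈ B := by
    rw [hBQ, ← hc, Sylow.coe_subgroup_smul]
    exact Subgroup.smul_mem_pointwise_smul t (MulAut.conj c) (R : Subgroup (MulAut G))
      (hR (Subgroup.mem_zpowers t))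
  have hconj : IsConj t (c * t * c⁻¹) := isConj_iff.2 ⟨c, rfl⟩
  rcases hmem with ⟨x, -, hx⟩ | ⟨a, ⟨u, hu, rfl⟩, e⟩
  · refine absurd ⟨(c⁻¹ : MulAut G) x, ?_⟩ hout
    have e : t = c⁻¹ * MulAut.conj x * c := by rw [hx]; group
    rw [e]
    refine MulEquiv.ext fun z => ?_
    show c⁻¹ x * z * (c⁻¹ x)⁻¹ = c⁻¹ (x * c z * x⁻¹)
    rw [map_mul, map_mul, map_inv, MulAut.inv_apply_self]
  · have hinv : u * flipHom u = 1 := conj_eq_one (by
      rw [← tau_mul_tau, tau, ← e, show c * t * c⁻¹ * (c * t * c⁻¹) = c * (t * t) * c⁻¹ by group,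
        ← pow_two, ← ht, pow_orderOf_eq_one, mul_one, mul_inv_cancel])
    obtain ⟨k, hk, h⟩ := classify_series hu hinv
    exact ⟨k, hk, hconj.trans (e ▸ h)⟩

theorem not_isConj {i j : ℕ} (hi : i < 3) (hj : j < 3) (h : i ≠ j) :
    ¬ IsConj (tau (evW ev (kindWord i))) (tau (evW ev (kindWord j))) := by
  intro hc
  have := nfix_conj hc
  rw [nfix_tau (ok_kindWord i), nfix_tau (ok_kindWord j)] at this
  interval_cases i <;> interval_cases j <;> first | exact h rfl | simp [counts_ok] at this

end CfsgLib.Presented.Fi22Pts.Outer
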