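import Cfsg.Agent.Lib.Presented.Fi22Pts.OuterFlip

/-! The checks of the certificate for the classes of outer involutions. -/
set_option autoImplicit false
set_option maxRecDepth 8000

namespace CfsgLib.Presented.Fi22Pts.Outer

open Fi22UCosets (ev)
open Fi22UCert (rep alphabet)

/-- a word in the generators of the series -/
noncomputable def expand (l : List ℕ) : List ℕ := (l.map fun i => gw.getD i []).flatten

/-- all indices are at least `j` -/
def above (j : ℕ) (l : List ℕ) : Bool := l.all fun i => Nat.ble j i && Nat.blt i 17

/-- the check of one generator of the series -/
noncomputable def seriesOK (i : ℕ) : Bool :=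
    eqW ((gw.getD i []).map pm) (expand (flipTab.getD i [])) && above i (flipTab.getD i []) &&
    eqW (gw.getD i [] ++ gw.getD i []) (expand (sqTab.getD i [])) && above (i + 1) (sqTab.getD i []) &&
    (List.range 17).all fun j =>
      eqW (gw.getD i [] ++ gw.getD j [] ++ (gw.getD i []).reverse) (expand ((conjTab.getD i []).getD j [])) &&
      above j ((conjTab.getD i []).getD j [])

/-- the representative with number `k` of stage `i` -/
noncomputable def repAt (i k : ℕ) : List ℕ := (reps.getD i []).getD k []

/-- the child `b` of the representative `k` in stage `i` -/
noncomputable def child (i k : ℕ) (b : Bool) : List ℕ := cond b (repAt i k ++ [i]) (repAt i k)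

/-- the check of one child -/
noncomputable def kidOK (i : ℕ) (c : List ℕ) : Kid → Bool :=
  fun K => Kid.rec (motive := fun _ => Bool)
    (fun m t => Nat.ble m i && above (m + 1) t &&
      eqW (expand c ++ (expand c).map pm) (expand (m :: t)))
    (fun xs r t => Nat.blt r (reps.getD (i + 1) []).length && above 0 xs && above (i + 1) t &&
      eqW ((expand xs).reverse ++ expand c ++ ((expand xs).map pm)) (expand (repAt (i + 1) r ++ t))) K

/-- all children of a stage -/
noncomputable def stageOK (i : ℕ) : Bool :=
  (List.range (reps.getD i []).length).all fun k => above 0 (repAt i k) &&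
    kidOK i (child i k false) ((kids.getD i []).getD (2 * k) (.dead 17 [])) &&
    kidOK i (child i k true) ((kids.getD i []).getD (2 * k + 1) (.dead 17 []))

/-- the words of the three kinds -/
noncomputable def kindWord : ℕ → List ℕ
  | 0 => []
  | 1 => tw wordA
  | _ => tw wordA ++ tw wordB

/-- number of points fixed by the flip followed by a word -/
noncomputable def fixCount (w : List ℕ) : ℕ :=
  Nat.rec (motive := fun _ => ℕ) 0 (fun q ih => cond (Nat.beq (img w (sig q)) q) (Nat.succ ih) ih) 3510

/-- the words of the generators use the nine letters -/
theorem gw_ok : (List.range 17).all (fun i => ok (gw.getD i [])) = true := by decide +kernel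

/-- later generators preserve the orbit, the present one leaves it -/
theorem orbs_ok : (List.range 17).all (fun j =>
    (orbs.getD j []).all (fun q => Nat.blt q 3510) &&
    (List.range 17).all (fun i => Nat.ble i j ||
      (orbs.getD j []).all fun q => (orbs.getD j []).any fun r => Nat.beq (img (gw.getD i []) q) r) &&
    (orbs.getD j []).any (fun q => !((orbs.getD j []).any fun r => Nat.beq (img (gw.getD j []) q) r))) = true := by
  decide +kernel

theorem start_ok : reps.getD 0 [] = [[]] := by decide +kernel

theorem counts_ok : fixCount (kindWord 0) = 360 ∧ fixCount (kindWord 1) = 64 ∧ fixCount (kindWord 2) = 72 := by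
  decide +kernel

end CfsgLib.Presented.Fi22Pts.Outer
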