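import Cfsg.Agent.Lib.Presented.Fi22Pts.Basic
import Cfsg.Agent.Lib.Presented.Fi22Pts.OuterData

/-!
The diagram flip of the presented Fischer group on 22 letters and its effect on the points.
-/
set_option autoImplicit false
set_option linter.constructorNameAsVariable false
set_option maxRecDepth 8000

namespace CfsgLib.Presented.Fi22Pts.Outer

open CfsgLib.ThreeTrans.Inst.FiTwentyTwo (P a o phi_word evW_cat evW_eq_one)
open Fi22UCosets (ev phi phi_ev rep_valid letters)
open Fi22UCert (rep alphabet)

/-- the flip on letters -/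
def pm : ℕ → ℕ := fun x => cond (Nat.blt x 7) (Nat.sub 6 x) x

theorem pm_pm : ∀ x, x < 9 → pm (pm x) = x ∧ pm x < 9 := by decide

/-- images of the generators -/
noncomputable def flipGen (g : Cfsg.Spor.Fi22.Gen) : G := ev (pm (Fi22UCosets.idxOf g))

theorem idxOf_lt (g : Cfsg.Spor.Fi22.Gen) : Fi22UCosets.idxOf g < 9 := by cases g <;> decide

theorem flipGen_sq (g : Cfsg.Spor.Fi22.Gen) : flipGen g * flipGen g = 1 :=
  letters_sq _ (pm_pm _ (idxOf_lt g)).2

theorem ev_flipGen (x : ℕ) (hx : x < 9) : letters.ev flipGen x = ev (pm x) := by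
  interval_cases x <;> rfl

theorem evW_flipGen : ∀ w : List ℕ, ok w = true → evW (letters.ev flipGen) w = evW ev (w.map pm)
  | [], _ => rfl
  | x :: w, h => by
    rw [ok, List.all_cons, Bool.and_eq_true, Nat.blt_eq] at h
    rw [evW_cons, List.map_cons, evW_cons, ev_flipGen x h.1, evW_flipGen w h.2]

theorem relWords_flip :
    Fi22UCert.relWords.all (fun w => ok w && rep.relsOK [w.map pm]) = true := by decide +kernel

theorem kills : ∀ r ∈ Cfsg.Spor.coxRelators Cfsg.Spor.Fi22.edges ∪ {r | r ∈ Cfsg.Spor.Fi22.extra},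
    FreeGroup.lift flipGen r = 1 := by
  have h : ∀ w ∈ Fi22UCert.relWords, evW (letters.ev flipGen) w = 1 := by
    intro w hw
    have h1 := List.all_eq_true.1 relWords_flip w hw
    rw [Bool.and_eq_true] at h1
    rw [evW_flipGen w h1.1]
    exact evW_eq_one h1.2
  rw [Fi22UCosets.relWords_eq] at h
  exact Letters.kills Fi22UCosets.letters_valid Fi22UCosets.nodes_valid Fi22UCosets.full
    (fun g _ => flipGen_sq g) (fun w hw => h w (List.mem_append_left _ hw))
    fun w hw => h w (List.mem_append_right _ hw)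

/-- the flip as an endomorphism -/
noncomputable def flipHom : G →* G := PresentedGroup.toGroup kills

theorem flipHom_of (g : Cfsg.Spor.Fi22.Gen) : flipHom (PresentedGroup.of g) = flipGen g :=
  PresentedGroup.toGroup.of _

theorem flipHom_ev : ∀ x, x < 9 → flipHom (ev x) = ev (pm x) := by
  intro x hx
  interval_cases x <;> exact flipHom_of _

theorem flipHom_word : ∀ {w : List ℕ}, ok w = true → flipHom (evW ev w) = evW ev (w.map pm)
  | [], _ => by simp
  | x :: w, h => by
    rw [ok, List.all_cons, Bool.and_eq_true, Nat.blt_eq] at h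
    rw [evW_cons, List.map_cons, evW_cons, map_mul, flipHom_ev x h.1, flipHom_word h.2]

theorem ok_map {w : List ℕ} (h : ok w = true) : ok (w.map pm) = true := by
  simp only [ok, List.all_eq_true, Nat.blt_eq, List.mem_map] at h ⊢
  rintro _ ⟨x, hx, rfl⟩
  exact (pm_pm x (h x hx)).2

theorem exists_word (g : G) : ∃ w, ok w = true ∧ evW ev w = g := by
  have hg : g ∈ Subgroup.closure (ev '' Set.Iio alphabet.eps) := Fi22UCosets.gen_top ▸ Subgroup.mem_top g
  induction hg using Subgroup.closure_induction with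
  | mem z hz =>
    obtain ⟨x, hx, rfl⟩ := hz
    refine ⟨[x], ?_, by simp⟩
    simpa [ok, Nat.blt_eq] using (show x < 9 from hx)
  | one => exact ⟨[], rfl, by simp⟩
  | mul u v _ _ hu hv =>
    obtain ⟨w, h1, rfl⟩ := hu
    obtain ⟨w', h1', rfl⟩ := hv
    exact ⟨w ++ w', by rw [ok_append, h1, h1']; rfl, evW_cat w w'⟩
  | inv u _ hu =>
    obtain ⟨w, h1, rfl⟩ := hu
    exact ⟨w.reverse, ok_reverse h1, evW_rev h1⟩

theorem flipHom_flipHom (g : G) : flipHom (flipHom g) = g := by
  obtain ⟨w, h, rfl⟩ := exists_word g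
  rw [flipHom_word h, flipHom_word (ok_map h), List.map_map]
  refine congrArg (evW ev) ?_
  simp only [ok, List.all_eq_true, Nat.blt_eq] at h
  conv_rhs => rw [← List.map_id w]
  exact List.map_congr_left fun x hx => (pm_pm x (h x hx)).1

/-- the flip -/
noncomputable def S : MulAut G where
  toFun := flipHom
  invFun := flipHom
  left_inv := flipHom_flipHom
  right_inv := flipHom_flipHom
  map_mul' := map_mul flipHom

theorem S_apply (g : G) : S g = flipHom g := rfl

theorem S_mul_S : S * S = 1 := MulEquiv.ext flipHom_flipHom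

/-! ### Points -/

/-- the image of a point under the flip -/
noncomputable def sig (q : ℕ) : ℕ := lookup sigTable q

theorem sig_ok : (List.range 9).all (fun x =>
    allLt (fun q => Nat.beq (sig (stepT x q)) (stepT (pm x) (sig q)) && Nat.blt (sig q) 3510) 3510) = true ∧
    sig 0 = gpts.getD 6 0 := by decide +kernel

theorem sig_lt {q : ℕ} (hq : q < rep.N) : sig q < rep.N := by
  have := allLt_spec (List.all_eq_true.1 sig_ok.1 0 (by simp)) q hq
  rw [Bool.and_eq_true, Nat.blt_eq] at this
  exact this.2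

theorem img_sig : ∀ {w : List ℕ}, ok w = true → ∀ {q : ℕ}, q < rep.N → sig (img w q) = img (w.map pm) (sig q)
  | [], _, _, _ => rfl
  | x :: w, h, q, hq => by
    rw [ok, List.all_cons, Bool.and_eq_true, Nat.blt_eq] at h
    show sig (Vec.force (img w q) fun r => stepT x r) =
      Vec.force (img (w.map pm) (sig q)) fun r => stepT (pm x) r
    rw [Vec.force_eq, Vec.force_eq]
    have := allLt_spec (List.all_eq_true.1 sig_ok.1 x (List.mem_range.2 h.1)) (img w q) (img_lt h.2 hq)
    rw [Bool.and_eq_true] at this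
    rw [Nat.eq_of_beq_eq_true this.1, img_sig h.2 hq]

theorem exists_img {q : ℕ} (hq : q < rep.N) : ∃ w, ok w = true ∧ img w 0 = q := by
  obtain ⟨g, hg⟩ := P.trans ⟨q, hq⟩
  obtain ⟨w, hw, rfl⟩ := exists_word g
  refine ⟨w, hw, ?_⟩
  rw [show P.o = o from rfl, ← pt_zero, phi_pt hw (VCert.pos Fi22UCert.cert_ok)] at hg
  have := congrArg Fin.val hg
  rwa [pt_val (img_lt hw (VCert.pos Fi22UCert.cert_ok))] at this

theorem flip_T {q : ℕ} (hq : q < rep.N) : flipHom (T q) = T (sig q) := by
  obtain ⟨w, hw, rfl⟩ := exists_img hq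
  rw [img_sig hw (VCert.pos Fi22UCert.cert_ok), sig_ok.2, ← evW_tw hw, flipHom_word (ok_tw hw), tw, List.map_append,
    List.map_append, List.map_reverse, evW_cat, evW_cat, evW_rev (ok_map hw),
    ← conj_T (ok_map hw) (show gpts.getD 6 0 < rep.N from gpts_lt _ (by decide)), T_gpts 6 (by norm_num)]
  rfl

end CfsgLib.Presented.Fi22Pts.Outer
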